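import Mathlib.GroupTheory.OrderOfElement
import Mathlib.GroupTheory.Sylow
import Mathlib.GroupTheory.QuotientGroup.Basic
import Mathlib.GroupTheory.Solvable
import Mathlib.Data.Nat.Factors
import Mathlib.Tactic
import Cfsg.Agent.ClassicalGeometry.AutPSL.Main
import Cfsg.Agent.ClassicalGeometry.PSLTorus
import Cfsg.Agent.SmallSimple.PSLTwoPart
import Mathlib.GroupTheory.Subgroup.Centralizer
import Mathlib.GroupTheory.SchurZassenhaus
import Cfsg.Agent.Lib.Cores
import Cfsg.Agent.QTComp.Basic
import Cfsg.Agent.SolvableStructure.HallConverse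
import Cfsg.Agent.TwoFusion.SLTwoFacts
import Cfsg.Agent.Lib.PSL2Torus
import Mathlib.NumberTheory.LegendreSymbol.QuadraticChar.GaussSum
import Cfsg.Agent.StdL2.FGal
import Cfsg.Agent.FastGrp
import Cfsg.Agent.Prune
set_option linter.all false

section
prune_inst 0x7f00000000000000000000000000000000000000000000000000000000000000000000000000000000000000000000000000000000000000000000000000000000000000000000000000000000000000003fffffffffffffffffffffffffffbeffbdffffffff

-- part: H577/PslTop
section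
set_option linter.all false
open scoped Cfsg.Agent.FastGrp

-- part: H577/Few
section
/-!
# Groups in which no prime divides three distinct element orders

`Few G` : no prime divides three distinct orders of elements of `G`.
`Ord G n` : `G` has an element of order `n`.
-/

set_option autoImplicit false

namespace Cfsg.Agent.H577

/-- No prime divides three pairwise distinct element orders. -/
def Few (G : Type*) [Group G] : Prop :=
  ∀ p : ℕ, p.Prime → ∀ a b c : G, orderOf a ≠ orderOf b → orderOf b ≠ orderOf c →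
    orderOf a ≠ orderOf c → ¬ (p ∣ orderOf a ∧ p ∣ orderOf b ∧ p ∣ orderOf c)

/-- `G` has an element of order `n`. -/
def Ord (G : Type*) [Group G] (n : ℕ) : Prop := ∃ g : G, orderOf g = n

variable {G H : Type*} [Group G] [Group H]

theorem Ord.of_injective {n : ℕ} (h : Ord H n) (f : H →* G) (hf : Function.Injective f) : Ord G n := by
  obtain ⟨x, rfl⟩ := h
  exact ⟨f x, orderOf_injective f hf x⟩

theorem Ord.of_subgroup {n : ℕ} {K : Subgroup G} (h : Ord K n) : Ord G n :=
  h.of_injective K.subtype K.subtype_injective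

theorem Ord.dvd [Finite G] {n d : ℕ} (h : Ord G n) (hd : d ∣ n) : Ord G d := by
  obtain ⟨x, rfl⟩ := h
  have h0 : orderOf x ≠ 0 := (orderOf_pos x).ne'
  exact ⟨x ^ (orderOf x / d), orderOf_pow_orderOf_div h0 hd⟩

theorem Ord.of_surjective [Finite G] {n : ℕ} (h : Ord H n) (f : G →* H) (hf : Function.Surjective f) :
    Ord G n := by
  obtain ⟨x, rfl⟩ := h
  obtain ⟨g, rfl⟩ := hf x
  exact Ord.dvd ⟨g, rfl⟩ (orderOf_map_dvd f g)

theorem Ord.of_equiv {n : ℕ} (h : Ord H n) (e : H ≃* G) : Ord G n :=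
  h.of_injective e.toMonoidHom e.injective

theorem Ord.pos [Finite G] {n : ℕ} (h : Ord G n) : 0 < n := by
  obtain ⟨x, rfl⟩ := h
  exact orderOf_pos x

theorem Ord.dvd_card {n : ℕ} (h : Ord G n) : n ∣ Nat.card G := by
  obtain ⟨x, rfl⟩ := h
  exact orderOf_dvd_natCard x

/-- commuting elements of coprime orders -/
theorem ord_mul {x y : G} (h : Commute x y) (hc : (orderOf x).Coprime (orderOf y)) :
    Ord G (orderOf x * orderOf y) :=
  ⟨x * y, h.orderOf_mul_eq_mul_orderOf_of_coprime hc⟩

theorem Few.of_injective (h : Few G) (f : H →* G) (hf : Function.Injective f) : Few H := by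
  intro p hp a b c h1 h2 h3 h4
  refine h p hp (f a) (f b) (f c) ?_ ?_ ?_ ?_
  · rw [orderOf_injective f hf, orderOf_injective f hf]; exact h1
  · rw [orderOf_injective f hf, orderOf_injective f hf]; exact h2
  · rw [orderOf_injective f hf, orderOf_injective f hf]; exact h3
  · rw [orderOf_injective f hf, orderOf_injective f hf, orderOf_injective f hf]; exact h4

theorem Few.of_surjective [Finite G] (h : Few G) (f : G →* H) (hf : Function.Surjective f) : Few H := by
  intro p hp a b c h1 h2 h3 h4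
  obtain ⟨a', ha⟩ := Ord.of_surjective (H := H) ⟨a, rfl⟩ f hf
  obtain ⟨b', hb⟩ := Ord.of_surjective (H := H) ⟨b, rfl⟩ f hf
  obtain ⟨c', hc⟩ := Ord.of_surjective (H := H) ⟨c, rfl⟩ f hf
  refine h p hp a' b' c' ?_ ?_ ?_ ?_
  · rw [ha, hb]; exact h1
  · rw [hb, hc]; exact h2
  · rw [ha, hc]; exact h3
  · rw [ha, hb, hc]; exact h4

theorem Few.quotient [Finite G] (h : Few G) (N : Subgroup G) [N.Normal] : Few (G ⧸ N) :=
  h.of_surjective (QuotientGroup.mk' N) (QuotientGroup.mk'_surjective N)

theorem Few.subgroup (h : Few G) (K : Subgroup G) : Few K :=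
  h.of_injective K.subtype K.subtype_injective

/-- three distinct orders divisible by a prime -/
theorem Few.false (h : Few G) {p n₁ n₂ n₃ : ℕ} (hp : p.Prime) (h1 : Ord G n₁) (h2 : Ord G n₂)
    (h3 : Ord G n₃) (h12 : n₁ ≠ n₂) (h23 : n₂ ≠ n₃) (h13 : n₁ ≠ n₃) (d1 : p ∣ n₁) (d2 : p ∣ n₂)
    (d3 : p ∣ n₃) : False := by
  obtain ⟨a, rfl⟩ := h1
  obtain ⟨b, rfl⟩ := h2
  obtain ⟨c, rfl⟩ := h3
  exact h p hp a b c h12 h23 h13 ⟨d1, d2, d3⟩

/-- no element order is a product of three primes -/
theorem Few.length_le_two [Finite G] (h : Few G) {n : ℕ} (hn : Ord G n) :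
    n.primeFactorsList.length ≤ 2 := by
  by_contra hcon
  push Not at hcon
  have hn0 : n ≠ 0 := hn.pos.ne'
  obtain ⟨p, q, r, l, hl⟩ : ∃ (p q r : ℕ) (l : List ℕ), n.primeFactorsList = p :: q :: r :: l := by
    rcases hL : n.primeFactorsList with _ | ⟨p, _ | ⟨q, _ | ⟨r, l⟩⟩⟩
    · rw [hL] at hcon; simp at hcon
    · rw [hL] at hcon; simp at hcon
    · rw [hL] at hcon; simp at hcon
    · exact ⟨p, q, r, l, rfl⟩
  have hprod := Nat.prod_primeFactorsList hn0
  rw [hl] at hprod
  simp only [List.prod_cons] at hprod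
  have hp : p.Prime := Nat.prime_of_mem_primeFactorsList (n := n) (by rw [hl]; simp)
  have hq : q.Prime := Nat.prime_of_mem_primeFactorsList (n := n) (by rw [hl]; simp)
  have hr : r.Prime := Nat.prime_of_mem_primeFactorsList (n := n) (by rw [hl]; simp)
  have d1 : p ∣ n := ⟨_, hprod.symm⟩
  have d2 : p * q ∣ n := ⟨r * l.prod, by rw [← hprod]; ring⟩
  have d3 : p * q * r ∣ n := ⟨l.prod, by rw [← hprod]; ring⟩
  have hpp := hp.pos
  have hqq := hq.one_lt
  have hrr := hr.one_lt
  refine h.false hp (hn.dvd d1) (hn.dvd d2) (hn.dvd d3) ?_ ?_ ?_ dvd_rfl (Dvd.intro _ rfl)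
    (Dvd.intro (q * r) (by ring))
  · nlinarith only [hpp, hqq]
  · have : 0 < p * q := Nat.mul_pos hpp hq.pos
    nlinarith only [hrr, this]
  · have : 1 < q * r := by nlinarith only [hqq, hrr]
    nlinarith only [hpp, this]

end Cfsg.Agent.H577
end

-- part: H577/Psl2
section
/-!
# Elements of `PSL(2, F)`
-/

set_option autoImplicit false

namespace Cfsg.Agent.H577.Psl2

open Matrix
open Cfsg.Agent.ClassicalGeometry.AutPSL.Root (pr pr_surjective)

abbrev SL2 (F : Type*) [Field F] := Matrix.SpecialLinearGroup (Fin 2) F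
abbrev P2 (F : Type*) [Field F] := Matrix.ProjectiveSpecialLinearGroup (Fin 2) F

variable {F : Type*} [Field F]

/-- the matrix with rows `a b`, `c d` -/
def m2 (a b c d : F) (h : a * d - b * c = 1) : SL2 F := ⟨!![a, b; c, d], by rw [det_fin_two_of, h]⟩

theorem m2_ext {a b c d a' b' c' d' : F} {h : a * d - b * c = 1} {h' : a' * d' - b' * c' = 1}
    (h1 : a = a') (h2 : b = b') (h3 : c = c') (h4 : d = d') : m2 a b c d h = m2 a' b' c' d' h' := by
  subst h1; subst h2; subst h3; subst h4; rfl

theorem m2_mul {a b c d a' b' c' d' : F} {h : a * d - b * c = 1} {h' : a' * d' - b' * c' = 1} :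
    m2 a b c d h * m2 a' b' c' d' h' =
      m2 (a * a' + b * c') (a * b' + b * d') (c * a' + d * c') (c * b' + d * d')
        (by linear_combination (a' * d' - b' * c') * h + h') := by
  apply Subtype.ext
  show !![a, b; c, d] * !![a', b'; c', d'] = _
  rw [mul_fin_two]
  rfl

theorem m2_inj {a b c d a' b' c' d' : F} {h : a * d - b * c = 1} {h' : a' * d' - b' * c' = 1}
    (he : m2 a b c d h = m2 a' b' c' d' h') : a = a' ∧ b = b' ∧ c = c' ∧ d = d' := by
  have h1 : !![a, b; c, d] = !![a', b'; c', d'] := congrArg Subtype.val he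
  refine ⟨?_, ?_, ?_, ?_⟩
  · simpa using congrFun (congrFun h1 0) 0
  · simpa using congrFun (congrFun h1 0) 1
  · simpa using congrFun (congrFun h1 1) 0
  · simpa using congrFun (congrFun h1 1) 1

theorem m2_one : (1 : SL2 F) = m2 1 0 0 1 (by ring) := by
  apply Subtype.ext
  show (1 : Matrix (Fin 2) (Fin 2) F) = !![1, 0; 0, 1]
  exact one_fin_two

theorem m2_neg {a b c d : F} {h : a * d - b * c = 1} :
    -(m2 a b c d h) = m2 (-a) (-b) (-c) (-d) (by linear_combination h) := by
  apply Subtype.ext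
  show -(!![a, b; c, d]) = !![-a, -b; -c, -d]
  ext i j
  fin_cases i <;> fin_cases j <;> rfl

theorem m2_inv {a b c d : F} {h : a * d - b * c = 1} :
    (m2 a b c d h)⁻¹ = m2 d (-b) (-c) a (by linear_combination h) := by
  rw [inv_eq_iff_mul_eq_one, m2_mul, m2_one]
  apply m2_ext
  · linear_combination h
  · ring
  · ring
  · linear_combination h

theorem exists_m2 (x : SL2 F) : ∃ (a b c d : F) (h : a * d - b * c = 1), x = m2 a b c d h := by
  have hd := x.2
  rw [det_fin_two] at hd
  refine ⟨x.1 0 0, x.1 0 1, x.1 1 0, x.1 1 1, hd, ?_⟩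
  apply Subtype.ext
  exact eta_fin_two x.1

theorem pr_eq_one_iff (x : SL2 F) : pr x = 1 ↔ x = 1 ∨ x = -1 :=
  ClassicalGeometry.PSLTorus.pr_eq_one_iff x

theorem pr_eq_iff (x y : SL2 F) : pr x = pr y ↔ x = y ∨ x = -y :=
  ClassicalGeometry.PSLTorus.pr_eq_iff x y

theorem pr_m2_eq_one {a b c d : F} {h : a * d - b * c = 1} :
    pr (m2 a b c d h) = 1 ↔ b = 0 ∧ c = 0 ∧ a = d := by
  rw [pr_eq_one_iff, m2_one, m2_neg]
  constructor
  · rintro (h1 | h1)
    · obtain ⟨e1, e2, e3, e4⟩ := m2_inj h1
      exact ⟨e2, e3, by rw [e1, e4]⟩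
    · obtain ⟨e1, e2, e3, e4⟩ := m2_inj h1
      exact ⟨by rw [e2]; ring, by rw [e3]; ring, by rw [e1, e4]⟩
  · rintro ⟨e1, e2, e3⟩
    subst e1; subst e2; subst e3
    have h1 : (a - 1) * (a + 1) = 0 := by linear_combination h
    rcases mul_eq_zero.1 h1 with h2 | h2
    · left
      have : a = 1 := by linear_combination h2
      apply m2_ext <;> simp [this]
    · right
      have : a = -1 := by linear_combination h2
      apply m2_ext <;> simp [this]

/-- diagonal matrices -/
def dg : Fˣ →* SL2 F where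
  toFun a := m2 (a : F) 0 0 ((a⁻¹ : Fˣ) : F) (by simp)
  map_one' := by rw [m2_one]; apply m2_ext <;> simp
  map_mul' a b := by rw [m2_mul]; apply m2_ext <;> simp only [mul_comm, _root_.Units.val_mul, _root_.MulZeroClass.mul_zero, _root_.add_zero, _root_.Units.val_inv_eq_inv_val, _root_.mul_inv_rev, _root_.zero_add]

theorem dg_apply (a : Fˣ) : dg a = m2 (a : F) 0 0 ((a⁻¹ : Fˣ) : F) (by simp) := rfl

/-- upper unitriangular matrices -/
def uu : Multiplicative F →* SL2 F where
  toFun x := m2 1 x.toAdd 0 1 (by simp)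
  map_one' := by rw [m2_one]; apply m2_ext <;> simp
  map_mul' a b := by rw [m2_mul]; apply m2_ext <;> simp [add_comm]

theorem uu_apply (x : F) : uu (Multiplicative.ofAdd x) = m2 1 x 0 1 (by simp) := rfl

theorem pr_dg_eq_one {a : Fˣ} : pr (dg a) = 1 ↔ a ^ 2 = 1 := by
  rw [dg_apply, pr_m2_eq_one]
  simp only [true_and]
  rw [Units.val_inj, eq_inv_iff_mul_eq_one, pow_two]

theorem pr_uu_eq_one {x : Multiplicative F} : pr (uu x) = 1 ↔ x = 1 := by
  rw [show uu x = m2 1 x.toAdd 0 1 (by simp) from rfl, pr_m2_eq_one]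
  simp only [_root_.toAdd_eq_zero, _root_.and_self, _root_.and_true]

theorem dg_conj_uu (a : Fˣ) (x : F) :
    dg a * uu (Multiplicative.ofAdd x) * (dg a)⁻¹ = uu (Multiplicative.ofAdd ((a : F) ^ 2 * x)) := by
  rw [dg_apply, uu_apply, uu_apply, m2_inv, m2_mul, m2_mul]
  have h := a.mul_inv
  apply m2_ext
  · simp
  · linear_combination 0 * h
  · simp
  · simp

theorem orderOf_pr_dg (a : Fˣ) : orderOf (pr (dg a)) = orderOf (a ^ 2) := by
  rw [orderOf_eq_orderOf_iff]
  intro n
  rw [← map_pow, ← map_pow, pr_dg_eq_one, ← pow_mul, ← pow_mul, mul_comm]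

theorem ord_minus [Fintype F] : Ord (P2 F) ((Fintype.card F - 1) / Nat.gcd 2 (Fintype.card F - 1)) := by
  classical
  obtain ⟨g, hg⟩ := IsCyclic.exists_generator (α := Fˣ)
  have h1 : orderOf g = Fintype.card F - 1 := by
    rw [orderOf_eq_card_of_forall_mem_zpowers hg, Nat.card_eq_fintype_card, Fintype.card_units]
  refine ⟨pr (dg g), ?_⟩
  rw [orderOf_pr_dg, orderOf_pow, h1, Nat.gcd_comm]

theorem ord_plus [Fintype F] : Ord (P2 F) ((Fintype.card F + 1) / Nat.gcd 2 (Fintype.card F - 1)) := by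
  classical
  obtain ⟨C, -, -, -, hC, hc, -⟩ := ClassicalGeometry.PSLTorus.exists_psl_torus F
  obtain ⟨g, hg⟩ := hC.exists_generator
  refine ⟨(g : P2 F), ?_⟩
  rw [Subgroup.orderOf_coe, orderOf_eq_card_of_forall_mem_zpowers hg, hc]

end Cfsg.Agent.H577.Psl2
end

-- part: H577/Norm
section
/-!
# Norms in Frobenius actions

* `exists_norm_ne_one`: if `E` acts nontrivially on the abelian group `V` without `|E|`-torsion, and `c` normalises `E`
  with `c ^ i` fixed-point-free on `E` for `0 < i < l`, then `∏_{i < l} c ^ i v ≠ 1` for some `v`.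
* `ord_mul_of_norm`: a nontrivial norm gives an element of order `l s` in an extension of a group of exponent `s`.
-/

set_option autoImplicit false

namespace Cfsg.Agent.H577

open Finset
open scoped IsMulCommutative

/-- **Norm lemma** (Frobenius groups acting on abelian groups). -/
theorem exists_norm_ne_one {Q V : Type*} [Group Q] [CommGroup V] (ρ : Q →* MulAut V) (E : Subgroup Q)
    [Finite E] (htor : ∀ v : V, v ^ Nat.card E = 1 → v = 1) (c : Q) {l : ℕ} (hl : 0 < l)
    (hnorm : ∀ e ∈ E, c * e * c⁻¹ ∈ E)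
    (hsemi : ∀ i : ℕ, 0 < i → i < l → ∀ e ∈ E, c ^ i * e * (c ^ i)⁻¹ = e → e = 1)
    (hact : ∃ e ∈ E, ∃ v : V, ρ e v ≠ v) : ∃ v : V, ∏ i ∈ range l, ρ (c ^ i) v ≠ 1 := by
  classical
  by_contra hcon
  push Not at hcon
  obtain ⟨e₀, he₀, v, hv⟩ := hact
  have := Fintype.ofFinite E
  have hnormi : ∀ i : ℕ, ∀ e ∈ E, c ^ i * e * (c ^ i)⁻¹ ∈ E := by
    intro i
    induction i with
    | zero => intro e he; simpa using he
    | succ i ih =>
      intro e he
      have h1 := hnorm _ (ih e he)
      have h2 : c * (c ^ i * e * (c ^ i)⁻¹) * c⁻¹ = c ^ (i + 1) * e * (c ^ (i + 1))⁻¹ := by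
        rw [pow_succ']; group
      rwa [h2] at h1
  -- conjugate norms
  have hconj : ∀ e : Q, ∏ i ∈ range l, ρ (e * c ^ i * e⁻¹) v = 1 := by
    intro e
    have h1 := hcon (ρ e⁻¹ v)
    have h2 : ∏ i ∈ range l, ρ (e * c ^ i * e⁻¹) v = ρ e (∏ i ∈ range l, ρ (c ^ i) (ρ e⁻¹ v)) := by
      rw [map_prod]
      refine prod_congr rfl fun i _ => ?_
      rw [map_mul, map_mul]
      rfl
    rw [h2, h1, map_one]
  -- the key bijection
  have hbij : ∀ i ∈ range l, i ≠ 0 → ∏ e : E, ρ ((e : Q) * c ^ i) v = ∏ e : E, ρ ((e : Q) * c ^ i * (e : Q)⁻¹) v := by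
    intro i hi hi0
    let φ : E → E := fun e => ⟨(e : Q) * (c ^ i * (e : Q)⁻¹ * (c ^ i)⁻¹),
      E.mul_mem e.2 (hnormi i _ (E.inv_mem e.2))⟩
    have hφ : Function.Bijective φ := by
      rw [← Finite.injective_iff_bijective]
      intro a b hab
      have h1 : (a : Q) * (c ^ i * (a : Q)⁻¹ * (c ^ i)⁻¹) = (b : Q) * (c ^ i * (b : Q)⁻¹ * (c ^ i)⁻¹) :=
        congrArg Subtype.val hab
      have h2 : c ^ i * ((b : Q)⁻¹ * a) * (c ^ i)⁻¹ = (b : Q)⁻¹ * a := by
        have h3 : (b : Q)⁻¹ * a * (c ^ i * (a : Q)⁻¹ * (c ^ i)⁻¹) = c ^ i * (b : Q)⁻¹ * (c ^ i)⁻¹ := by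
          rw [mul_assoc, h1]; group
        calc c ^ i * ((b : Q)⁻¹ * a) * (c ^ i)⁻¹
            = (c ^ i * (b : Q)⁻¹ * (c ^ i)⁻¹) * (c ^ i * a * (c ^ i)⁻¹) := by group
          _ = ((b : Q)⁻¹ * a * (c ^ i * (a : Q)⁻¹ * (c ^ i)⁻¹)) * (c ^ i * a * (c ^ i)⁻¹) := by rw [h3]
          _ = (b : Q)⁻¹ * a := by group
      have h3 := hsemi i (Nat.pos_of_ne_zero hi0) (mem_range.1 hi) _ (E.mul_mem (E.inv_mem b.2) a.2) h2
      apply Subtype.ext
      exact (inv_mul_eq_one.1 h3).symm
    rw [← Function.Bijective.prod_comp hφ (fun e : E => ρ ((e : Q) * c ^ i) v)]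
    refine prod_congr rfl fun e _ => ?_
    congr 2
    show (e : Q) * (c ^ i * (e : Q)⁻¹ * (c ^ i)⁻¹) * c ^ i = (e : Q) * c ^ i * (e : Q)⁻¹
    group
  -- the double product
  have h1 : ∏ e : E, ∏ i ∈ range l, ρ ((e : Q) * c ^ i) v = 1 := by
    refine prod_eq_one fun e _ => ?_
    have h2 : ∏ i ∈ range l, ρ ((e : Q) * c ^ i) v = ρ (e : Q) (∏ i ∈ range l, ρ (c ^ i) v) := by
      rw [map_prod]
      refine prod_congr rfl fun i _ => ?_
      rw [map_mul]; rfl
    rw [h2, hcon v, map_one]
  have h2 : ∏ e : E, ∏ i ∈ range l, ρ ((e : Q) * c ^ i * (e : Q)⁻¹) v = 1 :=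
    prod_eq_one fun e _ => hconj e
  obtain ⟨l', rfl⟩ : ∃ l', l = l' + 1 := ⟨l - 1, by omega⟩
  rw [prod_comm, prod_range_succ'] at h1 h2
  have h3 : ∏ i ∈ range l', ∏ e : E, ρ ((e : Q) * c ^ (i + 1)) v =
      ∏ i ∈ range l', ∏ e : E, ρ ((e : Q) * c ^ (i + 1) * (e : Q)⁻¹) v := by
    refine prod_congr rfl fun i hi => ?_
    exact hbij (i + 1) (mem_range.2 (by have := mem_range.1 hi; omega)) (by omega)
  rw [h3] at h1
  have h4 : ∏ e : E, ρ ((e : Q) * c ^ 0) v = ∏ e : E, ρ ((e : Q) * c ^ 0 * (e : Q)⁻¹) v :=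
    mul_left_cancel (h1.trans h2.symm)
  have h5 : ∏ e : E, ρ (e : Q) v = v ^ Nat.card E := by
    have h6 : ∏ e : E, ρ ((e : Q) * c ^ 0) v = ∏ e : E, ρ (e : Q) v := by
      refine prod_congr rfl fun e _ => ?_
      rw [pow_zero, mul_one]
    rw [← h6, h4]
    have h7 : ∀ e : E, ρ ((e : Q) * c ^ 0 * (e : Q)⁻¹) v = v := by
      intro e
      rw [pow_zero, mul_one, mul_inv_cancel, map_one]; rfl
    rw [prod_congr rfl fun e _ => h7 e, prod_const, card_univ, Nat.card_eq_fintype_card]
  have h6 : ρ e₀ (v ^ Nat.card E) = v ^ Nat.card E := by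
    rw [← h5, map_prod]
    rw [← Function.Bijective.prod_comp (Group.mulLeft_bijective (⟨e₀, he₀⟩ : E)) (fun e : E => ρ (e : Q) v)]
    refine prod_congr rfl fun e _ => ?_
    show ρ e₀ (ρ (e : Q) v) = ρ (e₀ * (e : Q)) v
    rw [map_mul]; rfl
  apply hv
  have h8 : (ρ e₀ v * v⁻¹) ^ Nat.card E = 1 := by
    rw [mul_pow, ← map_pow, h6, inv_pow, mul_inv_cancel]
  exact mul_inv_eq_one.1 (htor _ h8)

/-- `(v x) ^ n = (∏ x ^ i v x ^ {-i}) x ^ n`. -/
theorem mul_pow_eq_norm {G : Type*} [Group G] {U : Subgroup G} [hUn : U.Normal] [IsMulCommutative U] (x : G) (v : U)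
    (n : ℕ) : ((v : G) * x) ^ n =
      ((∏ i ∈ range n, MulAut.conjNormal (x ^ i) v : U) : G) * x ^ n := by
  induction n with
  | zero => simp only [_root_.pow_zero, _root_.Finset.range_zero, _root_.map_pow, _root_.Finset.prod_empty, _root_.OneMemClass.coe_one, _root_.mul_one]
  | succ n ih =>
    rw [pow_succ, ih, prod_range_succ, Subgroup.coe_mul, MulAut.conjNormal_apply, pow_succ x n]
    group

/-- A nontrivial norm gives an element of order `l s`. -/
theorem ord_mul_of_norm {G : Type*} [Group G] [Finite G] {U : Subgroup G} [hUn : U.Normal] [IsMulCommutative U]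
    {s l : ℕ} (hs : s.Prime) (hU : ∀ u ∈ U, u ^ s = 1) (x : G)
    (hl : orderOf (QuotientGroup.mk' U x) = l)
    (v : U) (hv : ∏ i ∈ range l, MulAut.conjNormal (x ^ i) v ≠ (1 : U)) : Ord G (l * s) := by
  have hl0 : 0 < l := by rw [← hl]; exact orderOf_pos _
  have key : ∀ y : G, QuotientGroup.mk' U y = QuotientGroup.mk' U x → y ^ l ≠ 1 → Ord G (l * s) := by
    intro y hy hyl
    have h1 : y ^ l ∈ U := by
      rw [← QuotientGroup.ker_mk' U, MonoidHom.mem_ker, map_pow, hy, ← hl, pow_orderOf_eq_one]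
    have h2 : l ∣ orderOf y := by
      rw [← hl, ← hy]; exact orderOf_map_dvd _ _
    have h3 : orderOf y ∣ l * s := by
      rw [orderOf_dvd_iff_pow_eq_one, pow_mul]; exact hU _ h1
    obtain ⟨m, hm⟩ := h2
    rw [hm] at h3
    have h4 : m ∣ s := Nat.dvd_of_mul_dvd_mul_left hl0 h3
    rcases (Nat.dvd_prime hs).1 h4 with h5 | h5
    · exfalso
      apply hyl
      rw [h5, mul_one] at hm
      rw [← hm, pow_orderOf_eq_one]
    · exact ⟨y, by rw [hm, h5]⟩
  by_cases hx : x ^ l = 1
  · refine key ((v : G) * x) ?_ ?_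
    · rw [map_mul]
      have : QuotientGroup.mk' U (v : G) = 1 := by
        rw [← MonoidHom.mem_ker, QuotientGroup.ker_mk']; exact v.2
      rw [this, one_mul]
    · rw [mul_pow_eq_norm, hx, mul_one]
      intro h
      exact hv (Subtype.ext h)
  · exact key x rfl hx

end Cfsg.Agent.H577
end

-- part: H577/FewRad
section
/-!
# The solvable radical of a group in which no prime divides three element orders
-/

set_option autoImplicit false

namespace Cfsg.Agent.H577

open Subgroup Cfsg
open scoped IsMulCommutative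

/-- A nontrivial solvable normal subgroup contains a nontrivial abelian subgroup of prime exponent, normal in the
group. -/
theorem exists_normal_elem {G : Type*} [Group G] [Finite G] (K : Subgroup G) [K.Normal]
    (hK : K ≠ ⊥) (hs : Group.IsSolvable K) :
    ∃ (p : ℕ) (V : Subgroup G), p.Prime ∧ V.Normal ∧ V ≠ ⊥ ∧ V ≤ K ∧ IsMulCommutative V ∧
      ∀ x ∈ V, x ^ p = 1 := by
  classical
  have hA : ∃ A : Subgroup G, A.Normal ∧ A ≠ ⊥ ∧ A ≤ K ∧ ∀ x ∈ A, ∀ y ∈ A, x * y = y * x := by
    obtain ⟨n, hn⟩ := (Group.isSolvable_def K).1 hs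
    have hex : ∃ n, derivedSeries K n = ⊥ := ⟨n, hn⟩
    set m := Nat.find hex with hm
    have hmspec : derivedSeries K m = ⊥ := Nat.find_spec hex
    have hm0 : m ≠ 0 := by
      intro h0
      rw [h0, derivedSeries_zero] at hmspec
      apply hK
      rw [eq_bot_iff]
      intro x hx
      have : (⟨x, hx⟩ : K) ∈ (⊤ : Subgroup K) := Subgroup.mem_top _
      rw [hmspec, Subgroup.mem_bot] at this
      simpa only [_root_.Subgroup.mem_bot, _root_.OneMemClass.coe_one] using congrArg Subtype.val this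
    obtain ⟨l, hl⟩ := Nat.exists_eq_succ_of_ne_zero hm0
    have hlne : derivedSeries K l ≠ ⊥ := by
      apply Nat.find_min hex
      omega
    have hchar : (derivedSeries K l).Characteristic := inferInstance
    refine ⟨(derivedSeries K l).map K.subtype, inferInstance, ?_, Subgroup.map_subtype_le _, ?_⟩
    · intro h
      apply hlne
      exact (Subgroup.map_eq_bot_iff_of_injective _ K.subtype_injective).1 h
    · have hcomm : ⁅derivedSeries K l, derivedSeries K l⁆ = ⊥ := by
        rw [← derivedSeries_succ]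
        have : l + 1 = m := by omega
        rw [this]; exact hmspec
      rintro _ ⟨x, hx, rfl⟩ _ ⟨y, hy, rfl⟩
      have := Subgroup.commutator_mem_commutator hx hy
      rw [hcomm, Subgroup.mem_bot, commutatorElement_eq_one_iff_mul_comm] at this
      rw [← map_mul, this, map_mul]
  obtain ⟨A, hAn, hA0, hAK, hAc⟩ := hA
  have : Nontrivial A := (Subgroup.nontrivial_iff_ne_bot A).2 hA0
  have hcard : Nat.card A ≠ 1 := by
    have := Finite.one_lt_card (α := A); omega
  obtain ⟨p, hp, hpd⟩ := Nat.exists_prime_and_dvd hcard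
  have := Fact.mk hp
  obtain ⟨x, hx⟩ := exists_prime_orderOf_dvd_card' (G := A) p hpd
  refine ⟨p, ?_, hp, ?_, ?_, ?_, ?_, ?_⟩
  · exact
      { carrier := {x | x ∈ A ∧ x ^ p = 1}
        one_mem' := ⟨A.one_mem, one_pow _⟩
        mul_mem' := by
          rintro a b ⟨ha, ha'⟩ ⟨hb, hb'⟩
          refine ⟨A.mul_mem ha hb, ?_⟩
          have hc : Commute a b := hAc a ha b hb
          rw [hc.mul_pow, ha', hb', one_mul]
        inv_mem' := by
          rintro a ⟨ha, ha'⟩
          refine ⟨A.inv_mem ha, ?_⟩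
          rw [inv_pow, ha', inv_one] }
  · constructor
    rintro a ⟨ha, ha'⟩ g
    refine ⟨hAn.conj_mem a ha g, ?_⟩
    rw [conj_pow, ha', mul_one, mul_inv_cancel]
  · intro h
    have hxm : (x : G) ∈ (⊥ : Subgroup G) := by
      rw [← h]
      refine ⟨x.2, ?_⟩
      have := pow_orderOf_eq_one x
      rw [hx] at this
      simpa only [_root_.SubmonoidClass.coe_pow, _root_.OneMemClass.coe_one] using congrArg Subtype.val this
    rw [Subgroup.mem_bot] at hxm
    have hx1 : x = 1 := Subtype.ext hxm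
    rw [hx1, orderOf_one] at hx
    exact hp.one_lt.ne hx
  · rintro a ⟨ha, _⟩
    exact hAK ha
  · refine ⟨⟨fun a b => Subtype.ext (hAc _ a.2.1 _ b.2.1)⟩⟩
  · rintro a ⟨_, ha'⟩
    exact ha'

theorem exists_order_of_map_top {G T : Type*} [Group G] [Finite G] [Group T] (f : G →* T) (K : Subgroup G)
    (hK : K.map f = ⊤) {l : ℕ} (hl : l.Prime) (hd : l ∣ Nat.card T) : ∃ x ∈ K, orderOf x = l := by
  have := Fact.mk hl
  have h1 : l ∣ Nat.card K := by
    refine hd.trans ?_
    have h2 := Subgroup.card_map_dvd (H := K) f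
    rw [hK, Subgroup.card_top] at h2
    exact h2
  obtain ⟨x, hx⟩ := exists_prime_orderOf_dvd_card' (G := K) l h1
  exact ⟨x, x.2, by rw [Subgroup.orderOf_coe]; exact hx⟩

/-- two different primes dividing `n`, different from a given one -/
theorem exists_two_primes {n s l₁ l₂ : ℕ} (h2 : 2 ∣ n) (hl₁ : l₁.Prime) (hl₂ : l₂.Prime)
    (h12 : l₁ ≠ 2) (h22 : l₂ ≠ 2) (hne : l₁ ≠ l₂) (hd₁ : l₁ ∣ n) (hd₂ : l₂ ∣ n) :
    ∃ a b : ℕ, a.Prime ∧ b.Prime ∧ a ≠ b ∧ a ≠ s ∧ b ≠ s ∧ a ∣ n ∧ b ∣ n := by
  by_cases h1 : s = l₁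
  · exact ⟨2, l₂, Nat.prime_two, hl₂, h22.symm, by rw [h1]; exact h12.symm, by rw [h1]; exact hne.symm, h2, hd₂⟩
  · by_cases h2' : s = l₂
    · exact ⟨2, l₁, Nat.prime_two, hl₁, h12.symm, by rw [h2']; exact h22.symm, by rw [h2']; exact hne, h2, hd₁⟩
    · exact ⟨l₁, l₂, hl₁, hl₂, hne, Ne.symm h1, Ne.symm h2', hd₁, hd₂⟩

section

variable {G T : Type*} [Group G] [Group T]

/-- A prime `s` with `s`, `s a`, `s b` element orders -/
theorem false_of_commute (hG : Few G) {s a b : ℕ} (hs : s.Prime) (ha : a.Prime) (hb : b.Prime) (hab : a ≠ b)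
    (h1 : Ord G s) (h2 : Ord G (s * a)) (h3 : Ord G (s * b)) : False := by
  refine hG.false hs h1 h2 h3 ?_ ?_ ?_ dvd_rfl (dvd_mul_right _ _) (dvd_mul_right _ _)
  · intro h
    have := hs.pos
    have := ha.one_lt
    nlinarith
  · intro h
    exact hab (Nat.eq_of_mul_eq_mul_left hs.pos h)
  · intro h
    have := hs.pos
    have := hb.one_lt
    nlinarith

/-- If a subgroup maps onto `T` and commutes with an element of prime order, there is a contradiction. -/
theorem false_of_centralizer [Finite G] (hG : Few G) (f : G →* T) (K : Subgroup G) (hK : K.map f = ⊤)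
    (h2 : 2 ∣ Nat.card T) {l₁ l₂ : ℕ} (hl₁ : l₁.Prime) (hl₂ : l₂.Prime)
    (h12 : l₁ ≠ 2) (h22 : l₂ ≠ 2) (hne : l₁ ≠ l₂) (hd₁ : l₁ ∣ Nat.card T) (hd₂ : l₂ ∣ Nat.card T)
    {s : ℕ} (hs : s.Prime) (u : G) (hu : orderOf u = s) (hc : ∀ x ∈ K, Commute x u) : False := by
  obtain ⟨a, b, ha, hb, hab, has, hbs, hda, hdb⟩ := exists_two_primes (s := s) h2 hl₁ hl₂ h12 h22 hne hd₁ hd₂
  obtain ⟨x, hx, hxa⟩ := exists_order_of_map_top f K hK ha hda
  obtain ⟨y, hy, hyb⟩ := exists_order_of_map_top f K hK hb hdb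
  refine false_of_commute hG hs ha hb hab ⟨u, hu⟩ ?_ ?_
  · have := ord_mul (hc x hx).symm (by rw [hu, hxa]; exact (Nat.coprime_primes hs ha).2 has.symm)
    rwa [hu, hxa] at this
  · have := ord_mul (hc y hy).symm (by rw [hu, hyb]; exact (Nat.coprime_primes hs hb).2 hbs.symm)
    rwa [hu, hyb] at this

end

end Cfsg.Agent.H577
end

-- part: H577/FewRadTwo
section
/-!
# The solvable radical of a group in which no prime divides three element orders is a 2-group
-/

set_option autoImplicit false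

namespace Cfsg.Agent.H577

open Subgroup Cfsg
open scoped IsMulCommutative

/-- Hypotheses on the simple top factor. -/
structure TopFactor (T : Type*) [Group T] : Prop where
  simple : IsSimpleGroup T
  nonab : ∃ a b : T, a * b ≠ b * a
  two : 2 ∣ Nat.card T
  odd : ∃ l₁ l₂ : ℕ, l₁.Prime ∧ l₂.Prime ∧ l₁ ≠ 2 ∧ l₂ ≠ 2 ∧ l₁ ≠ l₂ ∧ l₁ ∣ Nat.card T ∧ l₂ ∣ Nat.card T
  alt : Ord T 4 ∨ ∃ (S : Sylow 2 T) (l : ℕ) (c : T), l.Prime ∧ l ≠ 2 ∧ orderOf c = l ∧
    (∀ e ∈ S, c * e * c⁻¹ ∈ S) ∧ ∀ e ∈ S, c * e * c⁻¹ = e → e = 1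

theorem center_eq_one {T : Type*} [Group T] [hs : IsSimpleGroup T] (hna : ∃ a b : T, a * b ≠ b * a) {z : T}
    (hz : ∀ g : T, g * z * g⁻¹ = z) : z = 1 := by
  have hzc : z ∈ Subgroup.center T := by
    rw [Subgroup.mem_center_iff]
    intro g
    have := hz g
    rw [mul_inv_eq_iff_eq_mul] at this
    exact this
  rcases hs.eq_bot_or_eq_top_of_normal (Subgroup.center T) inferInstance with h | h
  · rw [h, Subgroup.mem_bot] at hzc
    exact hzc
  · exfalso
    obtain ⟨a, b, hab⟩ := hna
    have ha : a ∈ Subgroup.center T := by rw [h]; exact Subgroup.mem_top a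
    rw [Subgroup.mem_center_iff] at ha
    exact hab (ha b).symm

variable {G T : Type*} [Group G] [Finite G] [Group T]

/-- `(ii-b)`: the case with elements of order `2 s`. -/
theorem aux_two_s (hT : TopFactor T) (hG : Few G) (f : G →* T) (hf : Function.Surjective f)
    {s : ℕ} (hs : s.Prime) (hs2 : s ≠ 2) (U : Subgroup G) [hUn : U.Normal] [hUc : IsMulCommutative U]
    (hUk : U ≤ f.ker) (hUe : ∀ x ∈ U, x ^ s = 1)
    (hC : Subgroup.centralizer (U : Set G) ≤ f.ker) (h2s : Ord G (2 * s)) : False := by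
  classical
  have hTs := hT.simple
  have hTf : Finite T := Finite.of_surjective f hf
  have h2' : Fact (Nat.Prime 2) := ⟨Nat.prime_two⟩
  obtain ⟨l₁, l₂, hl₁, hl₂, h12, h22, hne, hd₁, hd₂⟩ := hT.odd
  have hoS : Ord G s := h2s.dvd (dvd_mul_left _ _)
  -- no elements of order four
  have h4 : ¬ Ord G 4 := by
    intro h4
    refine hG.false Nat.prime_two (h4.dvd (by norm_num : 2 ∣ 4)) h4 h2s (by norm_num) ?_ ?_ (by norm_num)
      (by norm_num) (dvd_mul_right _ _)
    · intro h; apply hs2; omega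
    · intro h; have := hs.one_lt; omega
  obtain ⟨S, l, c, hl, hl2, hcl, hcS, hcf⟩ : ∃ (S : Sylow 2 T) (l : ℕ) (c : T), l.Prime ∧ l ≠ 2 ∧
      orderOf c = l ∧ (∀ e ∈ S, c * e * c⁻¹ ∈ S) ∧ ∀ e ∈ S, c * e * c⁻¹ = e → e = 1 := by
    rcases hT.alt with h | h
    · exact absurd (h.of_surjective f hf) h4
    · exact h
  -- 2-subgroups have exponent 2
  have hexp : ∀ x : G, (∃ k : ℕ, x ^ 2 ^ k = 1) → x ^ 2 = 1 := by
    rintro x ⟨k, hk⟩
    obtain ⟨j, hj, hj'⟩ := (Nat.dvd_prime_pow Nat.prime_two).1 (orderOf_dvd_of_pow_eq_one hk)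
    rcases Nat.lt_or_ge j 2 with h | h
    · rw [← orderOf_dvd_iff_pow_eq_one, hj']
      exact pow_dvd_pow 2 (by omega : j ≤ 1)
    · exfalso
      apply h4
      refine Ord.dvd ⟨x, rfl⟩ ?_
      rw [hj']
      exact pow_dvd_pow 2 h
  have hexpP : ∀ P : Sylow 2 G, ∀ x ∈ P, x ^ 2 = 1 := by
    intro P x hx
    apply hexp
    obtain ⟨k, hk⟩ := P.isPGroup' ⟨x, hx⟩
    exact ⟨k, congrArg Subtype.val hk⟩
  have hcommP : ∀ P : Sylow 2 G, ∀ x ∈ P, ∀ y ∈ P, x * y = y * x := by
    intro P x hx y hy
    have h1 := hexpP P x hx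
    have h3 := hexpP P y hy
    have h5 := hexpP P (x * y) (P.mul_mem hx hy)
    rw [pow_two] at h1 h3 h5
    have hxi : x⁻¹ = x := inv_eq_of_mul_eq_one_left h1
    have hyi : y⁻¹ = y := inv_eq_of_mul_eq_one_left h3
    have h6 : (x * y)⁻¹ = x * y := inv_eq_of_mul_eq_one_left h5
    rw [mul_inv_rev, hxi, hyi] at h6
    exact h6.symm
  -- images of Sylow 2-subgroups are nontrivial
  have hPne : ∀ P : Sylow 2 G, ∃ x ∈ P, f x ≠ 1 := by
    intro P
    by_contra hcon
    push Not at hcon
    have h1 : (P.mapSurjective hf : Subgroup T) = ⊥ := by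
      rw [eq_bot_iff]
      rintro _ ⟨x, hx, rfl⟩
      rw [Subgroup.mem_bot]
      exact hcon x hx
    have h3 := (P.mapSurjective hf).card_eq_multiplicity
    have h5 : Nat.card (P.mapSurjective hf : Subgroup T) = 1 := by
      rw [h1, Subgroup.card_bot]
    rw [h5] at h3
    have h6 : 0 < (Nat.card T).factorization 2 :=
      Nat.prime_two.factorization_pos_of_dvd Nat.card_pos.ne' hT.two
    have h7 : 1 < 2 ^ (Nat.card T).factorization 2 := Nat.one_lt_two_pow h6.ne'
    omega
  -- the kernel has odd order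
  have hodd : ¬ 2 ∣ Nat.card f.ker := by
    intro hdvd
    obtain ⟨Q⟩ : Nonempty (Sylow 2 f.ker) := inferInstance
    set Q' : Subgroup G := (Q : Subgroup f.ker).map f.ker.subtype with hQ'
    have hQ'p : IsPGroup 2 Q' := Q.isPGroup'.map _
    obtain ⟨P, hP⟩ := hQ'p.exists_le_sylow
    have hfr : normalizer (Q' : Set G) ⊔ f.ker = ⊤ := Sylow.normalizer_sup_eq_top Q
    have hM : (normalizer (Q' : Set G)).map f = ⊤ := by
      have h1 := congrArg (Subgroup.map f) hfr
      rw [Subgroup.map_sup, (Subgroup.map_eq_bot_iff _).2 le_rfl, sup_bot_eq,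
        Subgroup.map_top_of_surjective f hf] at h1
      exact h1
    -- the centralizer of `Q'`
    have hCn : ((centralizer (Q' : Set G)).map f).Normal := by
      constructor
      rintro _ ⟨x, hx, rfl⟩ t
      have ht : t ∈ (normalizer (Q' : Set G)).map f := by rw [hM]; exact Subgroup.mem_top t
      obtain ⟨m, hm, rfl⟩ := ht
      refine ⟨m * x * m⁻¹, ?_, by simp only [_root_.map_mul, _root_.map_inv]⟩
      rw [SetLike.mem_coe, Subgroup.mem_centralizer_iff]
      intro q hq
      have hq' : m⁻¹ * q * m ∈ Q' := by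
        have := (Subgroup.mem_normalizer_iff.1 (Subgroup.inv_mem _ hm) q).1 hq
        simpa using this
      have h1 := Subgroup.mem_centralizer_iff.1 hx _ hq'
      calc q * (m * x * m⁻¹) = m * ((m⁻¹ * q * m) * x) * m⁻¹ := by group
        _ = m * (x * (m⁻¹ * q * m)) * m⁻¹ := by rw [h1]
        _ = m * x * m⁻¹ * q := by group
    have hCtop : (centralizer (Q' : Set G)).map f = ⊤ := by
      rcases hTs.eq_bot_or_eq_top_of_normal _ hCn with h | h
      · exfalso
        obtain ⟨x, hx, hx1⟩ := hPne P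
        apply hx1
        have : f x ∈ (centralizer (Q' : Set G)).map f := by
          refine ⟨x, ?_, rfl⟩
          rw [SetLike.mem_coe, Subgroup.mem_centralizer_iff]
          intro q hq
          exact hcommP P q (hP hq) x hx
        rw [h, Subgroup.mem_bot] at this
        exact this
      · exact h
    -- an involution of `Q'`
    have hQne : 2 ∣ Nat.card Q := by
      have h3 := Q.card_eq_multiplicity
      have h6 : 0 < (Nat.card f.ker).factorization 2 :=
        Nat.prime_two.factorization_pos_of_dvd Nat.card_pos.ne' hdvd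
      rw [h3]
      exact dvd_pow_self 2 h6.ne'
    obtain ⟨z, hz⟩ := exists_prime_orderOf_dvd_card' (G := Q) 2 hQne
    have hzo : orderOf (((z : f.ker) : G)) = 2 := by
      rw [Subgroup.orderOf_coe, Subgroup.orderOf_coe]; exact hz
    refine false_of_centralizer hG f _ hCtop hT.two hl₁ hl₂ h12 h22 hne hd₁ hd₂ Nat.prime_two
      ((z : f.ker) : G) hzo ?_
    intro x hx
    exact (Subgroup.mem_centralizer_iff.1 hx _ ⟨z, z.2, rfl⟩).symm
  -- a Sylow 2-subgroup above `S`
  obtain ⟨P, hPS⟩ := Sylow.mapSurjective_surjective hf 2 S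
  have hPS' : (P : Subgroup G).map f = S := by rw [← hPS]; rfl
  have hPinf : ∀ x ∈ P, f x = 1 → x = 1 := by
    intro x hx hfx
    have h1 : orderOf x ∣ 2 := orderOf_dvd_of_pow_eq_one (hexpP P x hx)
    rcases (Nat.dvd_prime Nat.prime_two).1 h1 with h | h
    · exact orderOf_eq_one_iff.1 h
    · exfalso
      apply hodd
      have h3 := _root_.orderOf_dvd_natCard (⟨x, MonoidHom.mem_ker.2 hfx⟩ : f.ker)
      rw [Subgroup.orderOf_mk, h] at h3
      exact h3
  -- lift `c` to an element normalising `P`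
  obtain ⟨x₂, hx₂P, hx₂c⟩ : ∃ x : G, (∀ y ∈ P, x * y * x⁻¹ ∈ P) ∧ f x = c := by
    obtain ⟨x₀, hx₀⟩ := hf c
    set L : Subgroup G := (S : Subgroup T).comap f with hL
    have hPL : (P : Subgroup G) ≤ L := by
      intro y hy
      show f y ∈ S
      have : f y ∈ (P : Subgroup G).map f := ⟨y, hy, rfl⟩
      rw [hPS'] at this
      exact this
    have hPL' : ((x₀ • P : Sylow 2 G) : Subgroup G) ≤ L := by
      rintro _ ⟨y, hy, rfl⟩
      show f (x₀ * y * x₀⁻¹) ∈ S
      rw [map_mul, map_mul, map_inv, hx₀]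
      exact hcS _ (hPL hy)
    obtain ⟨g, hg⟩ := MulAction.exists_smul_eq L (P.subtype hPL) ((x₀ • P).subtype hPL')
    rw [Sylow.smul_subtype] at hg
    have hg' : (g • P : Sylow 2 G) = x₀ • P := Sylow.subtype_injective hg
    have hx₁ : ∀ y ∈ P, ((g : G)⁻¹ * x₀) * y * ((g : G)⁻¹ * x₀)⁻¹ ∈ P := by
      intro y hy
      have h1 : x₀ * y * x₀⁻¹ ∈ (x₀ • P : Sylow 2 G) := ⟨y, hy, rfl⟩
      rw [← hg'] at h1
      obtain ⟨w, hw, hw'⟩ := h1
      have h3 : (g : G) * w * (g : G)⁻¹ = x₀ * y * x₀⁻¹ := hw'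
      have h5 : ((g : G)⁻¹ * x₀) * y * ((g : G)⁻¹ * x₀)⁻¹ = w := by
        calc ((g : G)⁻¹ * x₀) * y * ((g : G)⁻¹ * x₀)⁻¹ = (g : G)⁻¹ * (x₀ * y * x₀⁻¹) * g := by group
          _ = (g : G)⁻¹ * ((g : G) * w * (g : G)⁻¹) * g := by rw [h3]
          _ = w := by group
      rw [h5]
      exact hw
    have hgS : f (g : G) ∈ (P : Subgroup G).map f := by
      rw [hPS']
      exact g.2
    obtain ⟨y, hy, hyg⟩ := hgS
    refine ⟨y * ((g : G)⁻¹ * x₀), ?_, ?_⟩
    · intro w hw
      have h1 := P.mul_mem (P.mul_mem hy (hx₁ w hw)) (P.inv_mem hy)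
      have h3 : y * (((g : G)⁻¹ * x₀) * w * ((g : G)⁻¹ * x₀)⁻¹) * y⁻¹ =
          y * ((g : G)⁻¹ * x₀) * w * (y * ((g : G)⁻¹ * x₀))⁻¹ := by group
      rwa [h3] at h1
    · rw [map_mul, map_mul, map_inv, hyg, hx₀, mul_inv_cancel_left]
  -- an `l`-element
  obtain ⟨x, hxP, hxc, k, hxl⟩ : ∃ x : G, (∀ y ∈ P, x * y * x⁻¹ ∈ P) ∧ f x = c ∧ ∃ k, orderOf x = l ^ k := by
    have hlf := Fact.mk hl
    have hpow : ∀ n : ℕ, ∀ y ∈ P, x₂ ^ n * y * (x₂ ^ n)⁻¹ ∈ P := by
      intro n
      induction n with
      | zero => intro y hy; simpa using hy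
      | succ n ih =>
        intro y hy
        have h1 := hx₂P _ (ih y hy)
        have h3 : x₂ * (x₂ ^ n * y * (x₂ ^ n)⁻¹) * x₂⁻¹ = x₂ ^ (n + 1) * y * (x₂ ^ (n + 1))⁻¹ := by
          rw [pow_succ']; group
        rwa [h3] at h1
    have hn0 : orderOf x₂ ≠ 0 := (orderOf_pos x₂).ne'
    obtain ⟨a, m, hm, ham⟩ := Nat.exists_eq_pow_mul_and_not_dvd hn0 l hl.ne_one
    have hcop : Nat.Coprime m l := ((Nat.Prime.coprime_iff_not_dvd hl).2 hm).symm
    obtain ⟨k, -, hk⟩ := Nat.exists_mul_mod_eq_one_of_coprime hcop hl.one_lt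
    refine ⟨x₂ ^ (m * k), hpow _, ?_, a, ?_⟩
    · rw [map_pow, hx₂c, ← pow_mod_orderOf, hcl, hk, pow_one]
    · have hkl : Nat.Coprime k (l ^ a) := by
        apply Nat.Coprime.pow_right
        rw [Nat.coprime_comm, Nat.Prime.coprime_iff_not_dvd hl]
        intro hdvd
        have h1 : m * k % l = 0 := Nat.mod_eq_zero_of_dvd (hdvd.mul_left m)
        omega
      rw [pow_mul]
      have h1 : orderOf (x₂ ^ m) = l ^ a := by
        have hm0 : 0 < m := Nat.pos_of_ne_zero (by rintro rfl; simp at hm)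
        rw [orderOf_pow' _ hm0.ne', ham, Nat.gcd_eq_right (dvd_mul_left _ _), Nat.mul_div_cancel _ hm0]
      rw [← h1] at hkl ⊢
      exact Nat.Coprime.orderOf_pow hkl.symm
  -- powers of `x` which act trivially
  have hPnt : ∃ t ∈ P, orderOf t = 2 := by
    obtain ⟨t, ht, ht1⟩ := hPne P
    refine ⟨t, ht, ?_⟩
    have h1 : orderOf t ∣ 2 := orderOf_dvd_of_pow_eq_one (hexpP P t ht)
    rcases (Nat.dvd_prime Nat.prime_two).1 h1 with h | h
    · exfalso
      rw [orderOf_eq_one_iff] at h
      rw [h, map_one] at ht1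
      exact ht1 rfl
    · exact h
  have hcomml : ∀ y ∈ P, Commute (x ^ l) y := by
    intro y hy
    have hfl : f (x ^ l) = 1 := by rw [map_pow, hxc, ← hcl, pow_orderOf_eq_one]
    have hpow : ∀ n : ℕ, ∀ y ∈ P, x ^ n * y * (x ^ n)⁻¹ ∈ P := by
      intro n
      induction n with
      | zero => intro y hy; simpa using hy
      | succ n ih =>
        intro y hy
        have h1 := hxP _ (ih y hy)
        have h3 : x * (x ^ n * y * (x ^ n)⁻¹) * x⁻¹ = x ^ (n + 1) * y * (x ^ (n + 1))⁻¹ := by
          rw [pow_succ']; group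
        rwa [h3] at h1
    have h1 : x ^ l * y * (x ^ l)⁻¹ * y⁻¹ = 1 := by
      apply hPinf
      · exact P.mul_mem (hpow l y hy) (P.inv_mem hy)
      · rw [map_mul, map_mul, map_mul, map_inv, map_inv, hfl]
        group
    have h3 : x ^ l * y * (x ^ l)⁻¹ = y := by
      rw [mul_inv_eq_one] at h1
      exact h1
    show x ^ l * y = y * x ^ l
    rw [mul_inv_eq_iff_eq_mul] at h3
    exact h3
  have hxl1 : orderOf x = l := by
    obtain ⟨t, ht, ht2⟩ := hPnt
    have hk0 : k ≠ 0 := by
      rintro rfl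
      rw [pow_zero, orderOf_eq_one_iff] at hxl
      rw [hxl, map_one] at hxc
      rw [← hxc, orderOf_one] at hcl
      exact hl.one_lt.ne hcl
    by_contra hcon
    have hk1 : k ≠ 1 := by
      rintro rfl
      rw [pow_one] at hxl
      exact hcon hxl
    have hk2 : 2 ≤ k := by omega
    have ho : orderOf (x ^ l) = l ^ (k - 1) := by
      rw [orderOf_pow' _ hl.ne_zero, hxl]
      have h1 : l ^ k = l ^ (k - 1) * l := by
        rw [← pow_succ]; congr 1; omega
      rw [h1, Nat.gcd_eq_right (dvd_mul_left _ _), Nat.mul_div_cancel _ hl.pos]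
    have hcop : (orderOf (x ^ l)).Coprime (orderOf t) := by
      rw [ho, ht2]
      exact Nat.Coprime.pow_left _ ((Nat.coprime_primes hl Nat.prime_two).2 hl2)
    have h2l : Ord G (l * 2) := by
      refine (ord_mul (hcomml t ht) hcop).dvd ?_
      rw [ho, ht2]
      exact Nat.mul_dvd_mul_right (dvd_pow_self l (by omega)) 2
    have hll : Ord G (l * l) := by
      refine Ord.dvd ⟨x, rfl⟩ ?_
      rw [hxl, ← pow_two]
      exact pow_dvd_pow l hk2
    refine hG.false hl (hll.dvd (dvd_mul_left _ _)) hll h2l ?_ ?_ ?_ dvd_rfl (dvd_mul_left _ _)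
      (dvd_mul_right _ _)
    · intro h
      have := hl.one_lt
      nlinarith only [h, this]
    · intro h
      exact hl2 (Nat.eq_of_mul_eq_mul_left hl.pos h)
    · intro h
      have := hl.one_lt
      omega
  -- the order modulo `U`
  have hxU : orderOf (QuotientGroup.mk' U x) = l := by
    have h1 : orderOf (QuotientGroup.mk' U x) ∣ l := by
      rw [← hxl1]; exact orderOf_map_dvd _ _
    rcases (Nat.dvd_prime hl).1 h1 with h | h
    · exfalso
      rw [orderOf_eq_one_iff, ← MonoidHom.mem_ker, QuotientGroup.ker_mk'] at h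
      have h3 : f x = 1 := hUk h
      rw [hxc] at h3
      rw [h3, orderOf_one] at hcl
      exact hl.one_lt.ne hcl
    · exact h
  -- the norm lemma
  have hnorm := exists_norm_ne_one (V := U) (MulAut.conjNormal : G →* MulAut U) (P : Subgroup G) ?_ x hl.pos hxP ?_ ?_
  · obtain ⟨v, hv⟩ := hnorm
    have hls := ord_mul_of_norm hs hUe x hxU v hv
    refine hG.false hs hoS h2s hls ?_ ?_ ?_ dvd_rfl (dvd_mul_left _ _) (dvd_mul_left _ _)
    · have := hs.pos; omega
    · intro h
      exact hl2 (Nat.eq_of_mul_eq_mul_right hs.pos h).symm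
    · intro h
      have := hl.one_lt
      have := hs.pos
      nlinarith
  · intro v hv
    have h1 : v ^ s = 1 := Subtype.ext (hUe _ v.2)
    have h3 : (orderOf v) ∣ 1 := by
      have h5 : Nat.Coprime (Nat.card (P : Subgroup G)) s := by
        rw [P.card_eq_multiplicity]
        exact Nat.Coprime.pow_left _ ((Nat.coprime_primes Nat.prime_two hs).2 hs2.symm)
      rw [← h5]
      exact Nat.dvd_gcd (orderOf_dvd_of_pow_eq_one hv) (orderOf_dvd_of_pow_eq_one h1)
    exact orderOf_eq_one_iff.1 (Nat.dvd_one.1 h3)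
  · intro i hi hil e he h
    -- `c ^ i` commutes with `f e`
    apply hPinf e he
    have h1 : c ^ i * f e * (c ^ i)⁻¹ = f e := by
      have := congrArg f h
      rwa [map_mul, map_mul, map_inv, map_pow, hxc] at this
    have h3 : Commute (c ^ i) (f e) := by
      show c ^ i * f e = f e * c ^ i
      rw [mul_inv_eq_iff_eq_mul] at h1
      exact h1
    have hcop : Nat.Coprime i l := by
      rw [Nat.coprime_comm, Nat.Prime.coprime_iff_not_dvd hl]
      exact Nat.not_dvd_of_pos_of_lt hi hil
    obtain ⟨k, -, hk⟩ := Nat.exists_mul_mod_eq_one_of_coprime hcop hl.one_lt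
    have h5 : Commute c (f e) := by
      have h6 := h3.pow_left k
      rw [← pow_mul, ← pow_mod_orderOf, hcl, hk, pow_one] at h6
      exact h6
    apply hcf
    · have : f e ∈ (P : Subgroup G).map f := ⟨e, he, rfl⟩
      rw [hPS'] at this
      exact this
    · rw [mul_inv_eq_iff_eq_mul]
      exact h5
  · by_contra hcon
    push Not at hcon
    obtain ⟨t, ht, ht1⟩ := hPne P
    apply ht1
    apply hC
    rw [Subgroup.mem_centralizer_iff]
    intro u hu
    have h1 := congrArg Subtype.val (hcon t ht ⟨u, hu⟩)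
    rw [MulAut.conjNormal_apply] at h1
    simp only at h1
    rw [mul_inv_eq_iff_eq_mul] at h1
    exact h1.symm

end Cfsg.Agent.H577
end

-- part: H577/FewRadMain
section
/-!
# The solvable radical of a group in which no prime divides three element orders is a 2-group: conclusion
-/

set_option autoImplicit false

namespace Cfsg.Agent.H577

open Subgroup Cfsg
open scoped IsMulCommutative

variable {G T : Type*} [Group G] [Finite G] [Group T]

/-- `(ii-a)`: no elements of order `2 s`. -/
theorem aux_no_two_s (hT : TopFactor T) (hG : Few G) (f : G →* T) (hf : Function.Surjective f)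
    {s : ℕ} (hs : s.Prime) (hs2 : s ≠ 2) (U : Subgroup G) [hUn : U.Normal] [hUc : IsMulCommutative U]
    (hU1 : U ≠ ⊥) (hUe : ∀ x ∈ U, x ^ s = 1)
    (hC : Subgroup.centralizer (U : Set G) ≤ f.ker) (h2s : ¬ Ord G (2 * s)) : False := by
  classical
  have hTs := hT.simple
  have hTf : Finite T := Finite.of_surjective f hf
  have h2' : Fact (Nat.Prime 2) := ⟨Nat.prime_two⟩
  obtain ⟨l₁, l₂, hl₁, hl₂, h12, h22, hne, hd₁, hd₂⟩ := hT.odd
  -- involutions invert `U`
  have hinv : ∀ t : G, orderOf t = 2 → ∀ u ∈ U, t * u * t⁻¹ = u⁻¹ := by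
    intro t ht u hu
    have htt : t * t = 1 := by rw [← pow_two, ← ht, pow_orderOf_eq_one]
    have hti : t⁻¹ = t := inv_eq_of_mul_eq_one_left htt
    have hu' : t * u * t⁻¹ ∈ U := hUn.conj_mem u hu t
    have hcomm : u * (t * u * t⁻¹) = (t * u * t⁻¹) * u := congrArg Subtype.val (mul_comm (⟨u, hu⟩ : U) ⟨_, hu'⟩)
    set w := u * (t * u * t⁻¹) with hw
    have hwU : w ∈ U := U.mul_mem hu hu'
    have htw : t * w = w * t := by
      calc t * w = t * u * t⁻¹ * (t * t * u * t⁻¹) := by rw [hw]; group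
        _ = t * u * t⁻¹ * (u * t) := by rw [htt, one_mul, hti]
        _ = (t * u * t⁻¹ * u) * t := by group
        _ = w * t := by rw [← hcomm]
    by_cases hw1 : w = 1
    · rw [hw] at hw1
      exact eq_inv_of_mul_eq_one_right hw1
    · exfalso
      apply h2s
      have how : orderOf w = s := by
        have := Fact.mk hs
        exact orderOf_eq_prime (hUe w hwU) hw1
      have := ord_mul (x := t) (y := w) htw (by rw [ht, how]; exact (Nat.coprime_primes Nat.prime_two hs).2 hs2.symm)
      rwa [ht, how] at this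
  have hcent : ∀ t : G, orderOf t = 2 → ∀ g : G, t * (g * t * g⁻¹) ∈ centralizer (U : Set G) := by
    intro t ht g
    have ht' : orderOf (g * t * g⁻¹) = 2 := by
      have h1 : orderOf (MulAut.conj g t) = orderOf t := orderOf_injective (MulAut.conj g).toMonoidHom
        (MulAut.conj g).injective t
      rw [MulAut.conj_apply] at h1
      rw [h1, ht]
    rw [Subgroup.mem_centralizer_iff]
    intro u hu
    have h1 := hinv _ ht' u hu
    have h3 := hinv t ht _ (U.inv_mem hu)
    rw [inv_inv] at h3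
    have h5 : t * (g * t * g⁻¹) * u * (t * (g * t * g⁻¹))⁻¹ = u := by
      calc t * (g * t * g⁻¹) * u * (t * (g * t * g⁻¹))⁻¹ =
            t * ((g * t * g⁻¹) * u * (g * t * g⁻¹)⁻¹) * t⁻¹ := by group
        _ = t * u⁻¹ * t⁻¹ := by rw [h1]
        _ = u := h3
    rw [mul_inv_eq_iff_eq_mul] at h5
    exact h5.symm
  -- an involution
  have h2G : 2 ∣ Nat.card G := hT.two.trans (Subgroup.card_dvd_of_surjective f hf)
  obtain ⟨t, ht⟩ := exists_prime_orderOf_dvd_card' (G := G) 2 h2G
  have htt : t * t = 1 := by rw [← pow_two, ← ht, pow_orderOf_eq_one]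
  have hti : t⁻¹ = t := inv_eq_of_mul_eq_one_left htt
  -- `t` is not in the centralizer of `U`
  have htC : t ∉ centralizer (U : Set G) := by
    intro htC
    obtain ⟨u, hu1⟩ := Subgroup.ne_bot_iff_exists_ne_one.1 hU1
    have h1 := hinv t ht u.1 u.2
    rw [Subgroup.mem_centralizer_iff] at htC
    rw [← htC u.1 u.2, mul_inv_cancel_right] at h1
    have h3 : (u : G) ^ 2 = 1 := by rw [pow_two]; nth_rw 1 [h1]; rw [inv_mul_cancel]
    have h5 : orderOf (u : G) ∣ 1 := by
      have h6 : Nat.Coprime 2 s := (Nat.coprime_primes Nat.prime_two hs).2 hs2.symm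
      rw [← h6]
      exact Nat.dvd_gcd (orderOf_dvd_of_pow_eq_one h3) (orderOf_dvd_of_pow_eq_one (hUe _ u.2))
    apply hu1
    exact Subtype.ext (orderOf_eq_one_iff.1 (Nat.dvd_one.1 h5))
  -- the quotient by the centralizer
  set C : Subgroup G := centralizer (U : Set G) with hCdef
  have hCn : C.Normal := inferInstance
  have hGC := hG.quotient C
  let f' : G ⧸ C →* T := QuotientGroup.lift C f (fun x hx => hC hx)
  have hf' : Function.Surjective f' := by
    intro y
    obtain ⟨x, rfl⟩ := hf y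
    exact ⟨QuotientGroup.mk x, rfl⟩
  have htop : (⊤ : Subgroup (G ⧸ C)).map f' = ⊤ := Subgroup.map_top_of_surjective f' hf'
  have ho : orderOf (QuotientGroup.mk' C t) = 2 := by
    have h1 : orderOf (QuotientGroup.mk' C t) ∣ 2 := by rw [← ht]; exact orderOf_map_dvd _ _
    rcases (Nat.dvd_prime Nat.prime_two).1 h1 with h | h
    · exfalso
      rw [orderOf_eq_one_iff, ← MonoidHom.mem_ker, QuotientGroup.ker_mk'] at h
      exact htC h
    · exact h
  refine false_of_centralizer hGC f' ⊤ htop hT.two hl₁ hl₂ h12 h22 hne hd₁ hd₂ Nat.prime_two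
    (QuotientGroup.mk' C t) ho ?_
  intro x _
  obtain ⟨g, rfl⟩ := QuotientGroup.mk'_surjective C x
  show QuotientGroup.mk' C g * QuotientGroup.mk' C t = QuotientGroup.mk' C t * QuotientGroup.mk' C g
  rw [← map_mul, ← map_mul]
  have h1 : (t * g)⁻¹ * (g * t) ∈ C := by
    have h3 := hcent t ht g⁻¹
    rw [inv_inv] at h3
    have h5 : (t * g)⁻¹ * (g * t) = (t * (g⁻¹ * t * g))⁻¹ := by
      calc (t * g)⁻¹ * (g * t) = g⁻¹ * t⁻¹ * g * t := by group
        _ = g⁻¹ * t⁻¹ * g * t⁻¹ := by rw [hti]
        _ = (t * (g⁻¹ * t * g))⁻¹ := by group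
    rw [h5]
    exact C.inv_mem h3
  exact (QuotientGroup.eq.2 h1).symm

/-- The case `O₂(G) = 1`. -/
theorem ker_eq_bot (hT : TopFactor T) (hG : Few G) (f : G →* T) (hf : Function.Surjective f)
    (hsolv : Group.IsSolvable f.ker) (hcore : pCore 2 G = ⊥) : f.ker = ⊥ := by
  classical
  by_contra hne
  have hTs := hT.simple
  have hTf : Finite T := Finite.of_surjective f hf
  obtain ⟨l₁, l₂, hl₁, hl₂, h12, h22, hnel, hd₁, hd₂⟩ := hT.odd
  obtain ⟨s, U, hs, hUn, hU1, hUk, hUc, hUe⟩ := exists_normal_elem f.ker hne hsolv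
  have hsf := Fact.mk hs
  have hs2 : s ≠ 2 := by
    rintro rfl
    apply hU1
    rw [eq_bot_iff, ← hcore]
    apply Cfsg.Agent.Lib.Cores.le_pCore hUn
    intro x
    exact ⟨1, Subtype.ext (by simpa only [_root_.pow_one, _root_.SubmonoidClass.coe_pow, _root_.OneMemClass.coe_one] using hUe x x.2)⟩
  obtain ⟨u, hu1⟩ := Subgroup.ne_bot_iff_exists_ne_one.1 hU1
  have huo : orderOf (u : G) = s := by
    refine orderOf_eq_prime (hUe _ u.2) ?_
    intro h
    exact hu1 (Subtype.ext h)
  have hCn : ((centralizer (U : Set G)).map f).Normal :=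
    Cfsg.Agent.Lib.Cores.map_normal_of_surjective hf inferInstance
  rcases hTs.eq_bot_or_eq_top_of_normal _ hCn with h | h
  · have hC : centralizer (U : Set G) ≤ f.ker := (Subgroup.map_eq_bot_iff _).1 h
    by_cases h2s : Ord G (2 * s)
    · exact aux_two_s hT hG f hf hs hs2 U hUk hUe hC h2s
    · exact aux_no_two_s hT hG f hf hs hs2 U hU1 hUe hC h2s
  · refine false_of_centralizer hG f _ h hT.two hl₁ hl₂ h12 h22 hnel hd₁ hd₂ hs (u : G) huo ?_
    intro x hx
    exact (Subgroup.mem_centralizer_iff.1 hx _ u.2).symm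

/-- **The kernel is `O₂(G)`.** -/
theorem ker_eq_pCore (hT : TopFactor T) (hG : Few G) (f : G →* T) (hf : Function.Surjective f)
    (hsolv : Group.IsSolvable f.ker) : f.ker = pCore 2 G := by
  classical
  have hTs := hT.simple
  have hTf : Finite T := Finite.of_surjective f hf
  have h2' : Fact (Nat.Prime 2) := ⟨Nat.prime_two⟩
  obtain ⟨l₁, l₂, hl₁, hl₂, h12, h22, hnel, hd₁, hd₂⟩ := hT.odd
  -- `O₂(G) ≤ ker f`
  have hle : pCore 2 G ≤ f.ker := by
    have hn : ((pCore 2 G).map f).Normal :=
      Cfsg.Agent.Lib.Cores.map_normal_of_surjective hf (Cfsg.Agent.Lib.Cores.pCore_normal 2)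
    rcases hTs.eq_bot_or_eq_top_of_normal _ hn with h | h
    · exact (Subgroup.map_eq_bot_iff _).1 h
    · exfalso
      have h1 : IsPGroup 2 ((pCore 2 G).map f) := (Cfsg.Agent.Lib.Cores.pCore_isPGroup 2).map f
      rw [h] at h1
      obtain ⟨n, hn⟩ := IsPGroup.iff_card.1 h1
      rw [Subgroup.card_top] at hn
      rw [hn] at hd₁
      exact h12 ((Nat.prime_dvd_prime_iff_eq hl₁ Nat.prime_two).1 (hl₁.dvd_of_dvd_pow hd₁))
  let f' : G ⧸ pCore 2 G →* T := QuotientGroup.lift (pCore 2 G) f (fun x hx => hle hx)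
  have hf' : Function.Surjective f' := by
    intro y
    obtain ⟨x, rfl⟩ := hf y
    exact ⟨QuotientGroup.mk x, rfl⟩
  have hker : f'.ker = f.ker.map (QuotientGroup.mk' (pCore 2 G)) := by
    ext x
    obtain ⟨g, rfl⟩ := QuotientGroup.mk'_surjective _ x
    constructor
    · intro hx
      exact ⟨g, hx, rfl⟩
    · rintro ⟨y, hy, hyx⟩
      rw [← hyx]
      exact hy
  have hsolv' : Group.IsSolvable f'.ker := by
    rw [hker]
    exact Group.isSolvable_of_surjective (f := (QuotientGroup.mk' (pCore 2 G)).subgroupMap f.ker)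
      ((QuotientGroup.mk' (pCore 2 G)).subgroupMap_surjective f.ker)
  have h1 := ker_eq_bot hT (hG.quotient (pCore 2 G)) f' hf' hsolv'
    (Cfsg.Agent.Lib.Cores.pCore_quotient_pCore 2)
  refine le_antisymm ?_ hle
  intro x hx
  have h3 : QuotientGroup.mk' (pCore 2 G) x ∈ f'.ker := hx
  rw [h1, Subgroup.mem_bot, ← MonoidHom.mem_ker, QuotientGroup.ker_mk'] at h3
  exact h3

end Cfsg.Agent.H577
end

-- part: H577/FewTwo
section
/-!
# When `O₂(G)` is trivial
-/

set_option autoImplicit false

namespace Cfsg.Agent.H577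

open Subgroup Cfsg
open scoped IsMulCommutative

/-- `T` has an element of order `2 r`, or a Frobenius subgroup with complement of order 3 or 4 (and odd kernel). -/
def NotEven (T : Type*) [Group T] : Prop :=
  (∃ r : ℕ, r.Prime ∧ r ≠ 2 ∧ Ord T (2 * r)) ∨
    ∃ (E : Subgroup T) (c : T) (l : ℕ), (l = 3 ∨ l = 4) ∧ orderOf c = l ∧ E ≠ ⊥ ∧ Odd (Nat.card E) ∧
      (∀ e ∈ E, c * e * c⁻¹ ∈ E) ∧
      ∀ i : ℕ, 0 < i → i < l → ∀ e ∈ E, c ^ i * e * (c ^ i)⁻¹ = e → e = 1

section

variable {G T : Type*} [Group G] [Group T]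

/-- the action of the quotient on an abelian kernel -/
noncomputable def actT (f : G →* T) (hf : Function.Surjective f) [IsMulCommutative f.ker] : T →* MulAut f.ker :=
  (QuotientGroup.lift f.ker (MulAut.conjNormal : G →* MulAut f.ker) (by
    intro x hx
    ext v
    have h := congrArg Subtype.val (mul_comm (⟨x, hx⟩ : f.ker) v)
    simp only [Subgroup.coe_mul] at h
    rw [MulAut.conjNormal_apply, h]
    simp)).comp (QuotientGroup.quotientKerEquivOfSurjective f hf).symm.toMonoidHom

theorem actT_apply (f : G →* T) (hf : Function.Surjective f) [IsMulCommutative f.ker] (x : G) :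
    actT f hf (f x) = MulAut.conjNormal x := by
  have h : (QuotientGroup.quotientKerEquivOfSurjective f hf).symm (f x) = QuotientGroup.mk x := by
    rw [MulEquiv.symm_apply_eq]
    rfl
  unfold actT
  rw [MonoidHom.comp_apply]
  have h2 : (QuotientGroup.quotientKerEquivOfSurjective f hf).symm.toMonoidHom (f x) =
      (QuotientGroup.mk x : G ⧸ f.ker) := h
  rw [h2]
  rfl

variable [Finite G]

theorem false_of_abelian_kernel (hT : TopFactor T) (hNE : NotEven T) (hG : Few G) (f : G →* T)
    (hf : Function.Surjective f) [IsMulCommutative f.ker] (hne : f.ker ≠ ⊥) (h2 : ∀ x ∈ f.ker, x ^ 2 = 1) :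
    False := by
  classical
  have hTs := hT.simple
  have hTf : Finite T := Finite.of_surjective f hf
  have h2' : Fact (Nat.Prime 2) := ⟨Nat.prime_two⟩
  obtain ⟨l₁, l₂, hl₁, hl₂, h12, h22, hnel, hd₁, hd₂⟩ := hT.odd
  -- the action is faithful
  have hinj : ∀ t : T, actT f hf t = 1 → t = 1 := by
    rcases hTs.eq_bot_or_eq_top_of_normal (actT f hf).ker inferInstance with h | h
    · intro t ht
      have : t ∈ (actT f hf).ker := ht
      rw [h, Subgroup.mem_bot] at this
      exact this
    · exfalso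
      obtain ⟨u, hu1⟩ := Subgroup.ne_bot_iff_exists_ne_one.1 hne
      have huo : orderOf (u : G) = 2 := by
        refine orderOf_eq_prime (h2 _ u.2) ?_
        intro h
        exact hu1 (Subtype.ext h)
      refine false_of_centralizer hG f ⊤ (Subgroup.map_top_of_surjective f hf) hT.two hl₁ hl₂ h12 h22 hnel
        hd₁ hd₂ Nat.prime_two (u : G) huo ?_
      intro x _
      have h1 : f x ∈ (actT f hf).ker := by rw [h]; exact Subgroup.mem_top _
      rw [MonoidHom.mem_ker, actT_apply] at h1
      have h3 := congrArg (fun φ : MulAut f.ker => ((φ u : f.ker) : G)) h1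
      simp only [MulAut.conjNormal_apply] at h3
      have h5 : x * (u : G) * x⁻¹ = u := h3
      rw [mul_inv_eq_iff_eq_mul] at h5
      exact h5
  have hord : ∀ x : G, orderOf (QuotientGroup.mk' f.ker x) = orderOf (f x) := by
    intro x
    have h1 : QuotientGroup.quotientKerEquivOfSurjective f hf (QuotientGroup.mk' f.ker x) = f x := rfl
    rw [← h1]
    exact (orderOf_injective (QuotientGroup.quotientKerEquivOfSurjective f hf).toMonoidHom
      (QuotientGroup.quotientKerEquivOfSurjective f hf).injective _).symm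
  -- an element of order four
  have h4 : Ord G 4 := by
    obtain ⟨t, ht⟩ := exists_prime_orderOf_dvd_card' (G := T) 2 hT.two
    obtain ⟨x, rfl⟩ := hf t
    have hx1 : f x ≠ 1 := by
      intro h
      rw [h, orderOf_one] at ht
      exact absurd ht (by norm_num)
    have h1 : actT f hf (f x) ≠ 1 := fun h => hx1 (hinj _ h)
    rw [actT_apply] at h1
    obtain ⟨v, hv⟩ : ∃ v : f.ker, MulAut.conjNormal x v ≠ v := by
      by_contra hcon
      push Not at hcon
      exact h1 (MulEquiv.ext hcon)
    refine ord_mul_of_norm Nat.prime_two h2 x (l := 2) (by rw [hord, ht]) v ?_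
    rw [Finset.prod_range_succ, Finset.prod_range_one, pow_zero, pow_one, map_one]
    intro h
    apply hv
    have h3 : v * v = 1 := by
      rw [← pow_two]
      exact Subtype.ext (by simpa only [_root_.SubmonoidClass.coe_pow, _root_.OneMemClass.coe_one] using h2 v v.2)
    have h5 : v * MulAut.conjNormal x v = v * v := by rw [h3]; exact h
    exact mul_left_cancel h5
  rcases hNE with ⟨r, hr, hr2, hor⟩ | ⟨E, c, l, hl, hcl, hE1, hEodd, hcE, hsemi⟩
  · have h2r : Ord G (2 * r) := hor.of_surjective f hf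
    refine hG.false Nat.prime_two (h4.dvd (by norm_num : 2 ∣ 4)) h4 h2r (by norm_num) ?_ ?_ (by norm_num)
      (by norm_num) (dvd_mul_right _ _)
    · intro h; apply hr2; omega
    · intro h; have := hr.one_lt; omega
  · have hl0 : 0 < l := by rcases hl with rfl | rfl <;> norm_num
    obtain ⟨v, hv⟩ := exists_norm_ne_one (actT f hf) E (by
      intro v hv
      have h1 : v ^ 2 = 1 := Subtype.ext (by simpa only [_root_.SubmonoidClass.coe_pow, _root_.OneMemClass.coe_one] using h2 v v.2)
      have h3 : (orderOf v) ∣ 1 := by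
        have h5 : Nat.Coprime (Nat.card E) 2 := (Nat.coprime_two_right).2 hEodd
        rw [← h5]
        exact Nat.dvd_gcd (orderOf_dvd_of_pow_eq_one hv) (orderOf_dvd_of_pow_eq_one h1)
      exact orderOf_eq_one_iff.1 (Nat.dvd_one.1 h3)) c hl0 hcE hsemi (by
      obtain ⟨e, he1⟩ := Subgroup.ne_bot_iff_exists_ne_one.1 hE1
      refine ⟨e, e.2, ?_⟩
      by_contra hcon
      push Not at hcon
      apply he1
      exact Subtype.ext (hinj _ (MulEquiv.ext hcon)))
    obtain ⟨x, rfl⟩ := hf c
    have hv' : ∏ i ∈ Finset.range l, MulAut.conjNormal (x ^ i) v ≠ (1 : f.ker) := by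
      have h1 : ∏ i ∈ Finset.range l, MulAut.conjNormal (x ^ i) v =
          ∏ i ∈ Finset.range l, actT f hf ((f x) ^ i) v := by
        refine Finset.prod_congr rfl fun i _ => ?_
        rw [← map_pow, actT_apply]
      rw [h1]
      exact hv
    have h6 : Ord G (l * 2) := ord_mul_of_norm Nat.prime_two h2 x (by rw [hord, hcl]) v hv'
    refine hG.false Nat.prime_two (h4.dvd (by norm_num : 2 ∣ 4)) h4 h6 (by norm_num) ?_ ?_ (by norm_num)
      (by norm_num) (dvd_mul_left _ _)
    · rcases hl with rfl | rfl <;> norm_num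
    · rcases hl with rfl | rfl <;> norm_num

/-- **The kernel is trivial** if `T` is not of even type. -/
theorem ker_eq_bot_of_notEven (hT : TopFactor T) (hNE : NotEven T) (hG : Few G) (f : G →* T)
    (hf : Function.Surjective f) (hsolv : Group.IsSolvable f.ker) : f.ker = ⊥ := by
  classical
  by_contra hne
  have h2 : IsPGroup 2 f.ker := by
    rw [ker_eq_pCore hT hG f hf hsolv]
    exact Cfsg.Agent.Lib.Cores.pCore_isPGroup 2
  -- a maximal normal subgroup below the kernel
  obtain ⟨K, hKmax⟩ : ∃ K : Subgroup G, Maximal (fun N : Subgroup G => N.Normal ∧ N < f.ker) K := by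
    have hfin : {N : Subgroup G | N.Normal ∧ N < f.ker}.Finite := Set.toFinite _
    exact hfin.exists_maximal ⟨⊥, inferInstance, bot_lt_iff_ne_bot.2 hne⟩
  have hKn : K.Normal := hKmax.prop.1
  have hKlt : K < f.ker := hKmax.prop.2
  let f' : G ⧸ K →* T := QuotientGroup.lift K f (fun x hx => hKlt.le hx)
  have hf' : Function.Surjective f' := by
    intro y
    obtain ⟨x, rfl⟩ := hf y
    exact ⟨QuotientGroup.mk x, rfl⟩
  have hker : f'.ker = f.ker.map (QuotientGroup.mk' K) := by
    ext x
    obtain ⟨g, rfl⟩ := QuotientGroup.mk'_surjective _ x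
    constructor
    · intro hx
      exact ⟨g, hx, rfl⟩
    · rintro ⟨y, hy, hyx⟩
      rw [← hyx]
      exact hy
  have hne' : f'.ker ≠ ⊥ := by
    intro h
    apply hKlt.not_ge
    intro x hx
    have h3 : QuotientGroup.mk' K x ∈ f'.ker := hx
    rw [h, Subgroup.mem_bot, ← MonoidHom.mem_ker, QuotientGroup.ker_mk'] at h3
    exact h3
  have hsolv' : Group.IsSolvable f'.ker := by
    rw [hker]
    exact Group.isSolvable_of_surjective (f := (QuotientGroup.mk' K).subgroupMap f.ker)
      ((QuotientGroup.mk' K).subgroupMap_surjective f.ker)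
  have h2' : IsPGroup 2 f'.ker := by
    rw [hker]; exact h2.map _
  obtain ⟨s, V, hs, hVn, hV1, hVk, hVc, hVe⟩ := exists_normal_elem f'.ker hne' hsolv'
  -- `V` is the whole kernel
  have hVeq : V = f'.ker := by
    by_contra hcon
    have hlt : V < f'.ker := lt_of_le_of_ne hVk hcon
    have h1 : (V.comap (QuotientGroup.mk' K)).Normal := inferInstance
    have h3 : V.comap (QuotientGroup.mk' K) < f.ker := by
      refine lt_of_le_of_ne ?_ ?_
      · intro x hx
        exact hVk hx
      · intro h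
        apply hcon
        rw [hker, ← h, Subgroup.map_comap_eq_self_of_surjective (QuotientGroup.mk'_surjective K)]
    have h5 : K ≤ V.comap (QuotientGroup.mk' K) := by
      intro x hx
      show QuotientGroup.mk' K x ∈ V
      have : QuotientGroup.mk' K x = 1 := by
        rw [← MonoidHom.mem_ker, QuotientGroup.ker_mk']; exact hx
      rw [this]; exact V.one_mem
    have h6 := hKmax.le_of_ge ⟨h1, h3⟩ h5
    apply hV1
    rw [eq_bot_iff]
    intro y hy
    obtain ⟨x, rfl⟩ := QuotientGroup.mk'_surjective K y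
    rw [Subgroup.mem_bot, ← MonoidHom.mem_ker, QuotientGroup.ker_mk']
    exact h6 hy
  have hs2 : s = 2 := by
    obtain ⟨u, hu1⟩ := Subgroup.ne_bot_iff_exists_ne_one.1 hV1
    have hsf := Fact.mk hs
    have huo : orderOf (u : G ⧸ K) = s := by
      refine orderOf_eq_prime (hVe _ u.2) ?_
      intro h
      exact hu1 (Subtype.ext h)
    obtain ⟨n, hn⟩ := h2' ⟨u, hVk u.2⟩
    have h1 : (u : G ⧸ K) ^ 2 ^ n = 1 := congrArg Subtype.val hn
    have h3 := orderOf_dvd_of_pow_eq_one h1
    rw [huo] at h3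
    exact (Nat.prime_dvd_prime_iff_eq hs Nat.prime_two).1 (hs.dvd_of_dvd_pow h3)
  subst hs2
  subst hVeq
  exact false_of_abelian_kernel hT hNE (hG.quotient K) f' hf' hne' hVe

end

end Cfsg.Agent.H577
end

-- part: H577/FewTop
section
/-!
# The structure of a nonsolvable `Few` group modulo its solvable radical
-/

set_option autoImplicit false

namespace Cfsg.Agent.H577

open Subgroup Cfsg
open Cfsg.Agent.SignalizersComponents.ComponentExists
open Cfsg.Agent.SignalizersComponents.Components
open Cfsg.Agent.QTComp.Basic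

/-- three primes divide the order of a nonsolvable group -/
theorem exists_three_primes (T : Type*) [Group T] [Finite T] (h : ¬ Group.IsSolvable T) :
    ∃ p q r : ℕ, p.Prime ∧ q.Prime ∧ r.Prime ∧ p ≠ q ∧ p ≠ r ∧ q ≠ r ∧
      p ∣ Nat.card T ∧ q ∣ Nat.card T ∧ r ∣ Nat.card T := by
  have h1 : 2 < (Nat.card T).primeFactors.card := by
    by_contra hcon
    push Not at hcon
    exact h (SolvableStructure.HallConverse.isSolvable_of_no_three_primes hcon)
  obtain ⟨p, hp, q, hq, r, hr, hpq, hpr, hqr⟩ := Finset.two_lt_card.1 h1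
  exact ⟨p, q, r, Nat.prime_of_mem_primeFactors hp, Nat.prime_of_mem_primeFactors hq,
    Nat.prime_of_mem_primeFactors hr, hpq, hpr, hqr, Nat.dvd_of_mem_primeFactors hp,
    Nat.dvd_of_mem_primeFactors hq, Nat.dvd_of_mem_primeFactors hr⟩

/-- two primes different from a given number -/
theorem exists_two_primes_ne (T : Type*) [Group T] [Finite T] (h : ¬ Group.IsSolvable T) (s : ℕ) :
    ∃ a b : ℕ, a.Prime ∧ b.Prime ∧ a ≠ b ∧ a ≠ s ∧ b ≠ s ∧ a ∣ Nat.card T ∧ b ∣ Nat.card T := by
  obtain ⟨p, q, r, hp, hq, hr, hpq, hpr, hqr, h1, h2, h3⟩ := exists_three_primes T h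
  by_cases ha : p = s
  · exact ⟨q, r, hq, hr, hqr, fun h => hpq (ha.trans h.symm), fun h => hpr (ha.trans h.symm), h2, h3⟩
  · by_cases hb : q = s
    · exact ⟨p, r, hp, hr, hpr, ha, fun h => hqr (hb.trans h.symm), h1, h3⟩
    · exact ⟨p, q, hp, hq, hpq, ha, hb, h1, h2⟩

/-- In a `Few` group, the centralizer of a nonsolvable subgroup is trivial. -/
theorem centralizer_eq_bot_of_few {X : Type*} [Group X] [Finite X] (hX : Few X) (K : Subgroup X)
    (hK : ¬ Group.IsSolvable K) : centralizer (K : Set X) = ⊥ := by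
  by_contra hne
  have hnt : Nontrivial (centralizer (K : Set X)) := (nontrivial_iff_ne_bot _).2 hne
  obtain ⟨s, hs, hsd⟩ := Nat.exists_prime_and_dvd (n := Nat.card (centralizer (K : Set X)))
    (Finite.one_lt_card).ne'
  have hsf := Fact.mk hs
  obtain ⟨u, hu⟩ := exists_prime_orderOf_dvd_card' (G := centralizer (K : Set X)) s hsd
  have hu' : orderOf (u : X) = s := by rw [Subgroup.orderOf_coe, hu]
  obtain ⟨a, b, ha, hb, hab, has, hbs, hda, hdb⟩ := exists_two_primes_ne K hK s
  have haf := Fact.mk ha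
  have hbf := Fact.mk hb
  obtain ⟨x, hx⟩ := exists_prime_orderOf_dvd_card' (G := K) a hda
  obtain ⟨y, hy⟩ := exists_prime_orderOf_dvd_card' (G := K) b hdb
  have hc : ∀ z : K, Commute (u : X) (z : X) := by
    intro z
    have := u.2
    rw [mem_centralizer_iff] at this
    exact (this z z.2).symm
  refine false_of_commute hX hs ha hb hab ⟨u, hu'⟩ ?_ ?_
  · have := ord_mul (hc x) (by
      rw [hu', Subgroup.orderOf_coe, hx]; exact (Nat.coprime_primes hs ha).2 has.symm)
    rwa [hu', Subgroup.orderOf_coe, hx] at this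
  · have := ord_mul (hc y) (by
      rw [hu', Subgroup.orderOf_coe, hy]; exact (Nat.coprime_primes hs hb).2 hbs.symm)
    rwa [hu', Subgroup.orderOf_coe, hy] at this

/-- **Reduction**: modulo the solvable radical, a nonsolvable `Few` group has a normal simple subgroup
with trivial centralizer. -/
theorem exists_top {G : Type*} [Group G] [Finite G] (hG : Few G) (hns : ¬ Group.IsSolvable G) :
    ∃ (R : Subgroup G) (_ : R.Normal) (T : Subgroup (G ⧸ R)), Group.IsSolvable R ∧ T.Normal ∧
      IsSimpleGroup T ∧ (∃ a b : T, a * b ≠ b * a) ∧ centralizer (T : Set (G ⧸ R)) = ⊥ := by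
  obtain ⟨R, hR⟩ := exists_isRad G
  have hRn := hR.normal
  have hX : Few (G ⧸ R) := hG.quotient R
  have hXns : ¬ Group.IsSolvable (G ⧸ R) := by
    intro h
    exact hns ((Group.isSolvable_iff_subgroup_quotient R).2 ⟨hR.solv, h⟩)
  have hfit : fittingSubgroup (G ⧸ R) = ⊥ := by
    rw [eq_bot_iff]
    refine sSup_le ?_
    rintro N ⟨hN, hnil⟩
    have h1 : Group.IsSolvable N := inferInstance
    rw [hR.eq_bot_of_subnormal hN.isSubnormal h1]
  obtain ⟨K, hK, -⟩ := exists_isComponent_le (G := G ⧸ R) (C := ⊤) IsSubnormal.top (by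
      intro h
      exact hXns (Group.isSolvable_of_surjective (f := (⊤ : Subgroup (G ⧸ R)).subtype) (by
        intro x; exact ⟨⟨x, mem_top x⟩, rfl⟩))) (by
      rw [hfit]
      intro x _
      rw [mem_centralizer_iff]
      intro y hy
      rw [SetLike.mem_coe, mem_bot] at hy
      rw [hy]; simp)
  have hKns := not_isSolvable_of_isQuasisimple hK.2
  have hcK : center K = ⊥ := by
    have h1 : ((center K).map K.subtype).IsSubnormal :=
      (inferInstance : (center K).Normal).isSubnormal.trans' hK.1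
    have h2 : Group.IsSolvable ((center K).map K.subtype) := by
      have h3 : Group.IsSolvable (center K) := Group.isSolvable_of_comm fun a b =>
        Subtype.ext (mem_center_iff.1 b.2 a)
      exact isSolvable_map h3 _
    have h3 := hR.eq_bot_of_subnormal h1 h2
    rwa [map_eq_bot_iff_of_injective _ K.subtype_injective] at h3
  have hKs : IsSimpleGroup K := by
    have e : K ⧸ center K ≃* K := (QuotientGroup.quotientMulEquivOfEq hcK).trans QuotientGroup.quotientBot
    have := hK.2.2
    exact e.symm.isSimpleGroup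
  have hcent := centralizer_eq_bot_of_few hX K hKns
  refine ⟨R, hRn, K, hR.solv, ?_, hKs, ?_, hcent⟩
  · -- `K` is normal
    refine ⟨fun n hn g => ?_⟩
    by_contra hcon
    have hK' : IsComponent (K.map (MulAut.conj g).toMonoidHom) := by
      exact isComponent_conj g hK
    have hne : K.map (MulAut.conj g).toMonoidHom ≠ K := by
      intro h
      apply hcon
      rw [← h]
      exact ⟨n, hn, rfl⟩
    have h1 := component_le_centralizer_of_ne hK' hK hne
    rw [hcent, le_bot_iff] at h1
    exact component_ne_bot hK' h1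
  · by_contra hcon
    push Not at hcon
    exact hKns (Group.isSolvable_of_comm hcon)

end Cfsg.Agent.H577
end

-- part: H577/PslTop
section
/-!
# `TopFactor` and `NotEven` for the groups `PSL(2, F)`
-/

set_option autoImplicit false
set_option linter.unusedSectionVars false

namespace Cfsg.Agent.H577

open Matrix Subgroup
open Cfsg.Agent.ClassicalGeometry.AutPSL.Root (pr pr_surjective)
open Psl2

/-- the alternative to elements of order four -/
def AltV (T : Type*) [Group T] : Prop :=
  ∃ (S : Sylow 2 T) (l : ℕ) (c : T), l.Prime ∧ l ≠ 2 ∧ orderOf c = l ∧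
    (∀ e ∈ S, c * e * c⁻¹ ∈ S) ∧ ∀ e ∈ S, c * e * c⁻¹ = e → e = 1

theorem AltV.congr {T T' : Type*} [Group T] [Group T'] [Finite T] [Finite T'] (h : AltV T) (e : T ≃* T') :
    AltV T' := by
  obtain ⟨S, l, c, hl, hl2, hc, h1, h2⟩ := h
  have hS : ∃ S' : Sylow 2 T', (S' : Subgroup T') = (S : Subgroup T).map e.toMonoidHom := by
    have hf := Fact.mk Nat.prime_two
    obtain ⟨Q, hQ⟩ := (S.2.map e.toMonoidHom).exists_le_sylow
    refine ⟨Q, ?_⟩
    symm
    apply Subgroup.eq_of_le_of_card_ge hQ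
    rw [Sylow.card_eq_multiplicity, Subgroup.card_map_of_injective e.injective, Sylow.card_eq_multiplicity,
      Nat.card_congr e.toEquiv]
  obtain ⟨S', hS'⟩ := hS
  have hmem : ∀ y : T', y ∈ S' ↔ e.symm y ∈ S := by
    intro y
    rw [← SetLike.mem_coe, ← Sylow.coe_coe, SetLike.mem_coe, hS']
    constructor
    · rintro ⟨x, hx, rfl⟩
      simpa using hx
    · intro hy
      exact ⟨e.symm y, hy, by simp⟩
  refine ⟨S', l, e c, hl, hl2, ?_, ?_, ?_⟩
  · rw [← hc]
    exact orderOf_injective e.toMonoidHom e.injective c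
  · intro y hy
    rw [hmem] at hy ⊢
    simpa only [_root_.map_mul, _root_.MulEquiv.symm_apply_apply, _root_.map_inv] using h1 _ hy
  · intro y hy h
    rw [hmem] at hy
    have h3 := h2 _ hy (by
      apply e.injective
      simpa only [_root_.map_mul, _root_.MulEquiv.apply_symm_apply, _root_.map_inv] using h)
    simpa using h3

theorem TopFactor.congr {T T' : Type*} [Group T] [Group T'] [Finite T] (h : TopFactor T) (e : T ≃* T') :
    TopFactor T' := by
  have hT' : Finite T' := Finite.of_equiv T e.toEquiv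
  have hs := h.simple
  have hcard : Nat.card T' = Nat.card T := Nat.card_congr e.symm.toEquiv
  refine ⟨e.symm.isSimpleGroup, ?_, ?_, ?_, ?_⟩
  · obtain ⟨a, b, hab⟩ := h.nonab
    refine ⟨e a, e b, ?_⟩
    rw [← map_mul, ← map_mul]
    exact fun h => hab (e.injective h)
  · rw [hcard]; exact h.two
  · rw [hcard]; exact h.odd
  · rcases h.alt with h1 | h1
    · exact Or.inl (h1.of_equiv e)
    · exact Or.inr (AltV.congr h1 e)

theorem NotEven.congr {T T' : Type*} [Group T] [Group T'] (h : NotEven T) (e : T ≃* T') : NotEven T' := by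
  rcases h with ⟨r, h1, h2, h3⟩ | ⟨E, c, l, hl, hc, hE, hodd, h1, h2⟩
  · exact Or.inl ⟨r, h1, h2, h3.of_equiv e⟩
  · right
    refine ⟨E.map e.toMonoidHom, e c, l, hl, ?_, ?_, ?_, ?_, ?_⟩
    · rw [← hc]
      exact orderOf_injective e.toMonoidHom e.injective c
    · intro h
      exact hE ((Subgroup.map_eq_bot_iff_of_injective _ e.injective).1 h)
    · rw [Subgroup.card_map_of_injective e.injective]
      exact hodd
    · rintro _ ⟨x, hx, rfl⟩
      refine ⟨c * x * c⁻¹, h1 x hx, ?_⟩
      simp only [_root_.MulEquiv.toMonoidHom_eq_coe, _root_.MonoidHom.coe_coe, _root_.map_mul, _root_.map_inv]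
    · rintro i hi0 hil _ ⟨x, hx, rfl⟩ h
      have h3 := h2 i hi0 hil x hx (by
        apply e.injective
        simpa only [_root_.map_mul, _root_.map_pow, _root_.map_inv, _root_.MulEquiv.toMonoidHom_eq_coe, _root_.MonoidHom.coe_coe] using h)
      rw [h3]
      simp

/-- Constructor for `TopFactor`. -/
theorem TopFactor.mk' {T : Type*} [Group T] [Finite T] (hs : IsSimpleGroup T) (hn : ∃ a b : T, a * b ≠ b * a)
    (h2 : 2 ∣ Nat.card T) (halt : Ord T 4 ∨ AltV T) : TopFactor T := by
  refine ⟨hs, hn, h2, ?_, halt⟩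
  have hns : ¬ Group.IsSolvable T := by
    intro h
    obtain ⟨a, b, hab⟩ := hn
    exact hab (IsSimpleGroup.comm_iff_isSolvable.2 h a b)
  obtain ⟨a, b, ha, hb, hab, ha2, hb2, hda, hdb⟩ := exists_two_primes_ne T hns 2
  exact ⟨a, b, ha, hb, ha2, hb2, hab, hda, hdb⟩

variable {F : Type*} [Field F] [Fintype F]

/-- the unipotent subgroup -/
def upp (F : Type*) [Field F] : Subgroup (P2 F) := ((pr : SL2 F →* P2 F).comp uu).range

theorem mem_upp {y : P2 F} : y ∈ upp F ↔ ∃ x : F, pr (uu (Multiplicative.ofAdd x)) = y := by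
  constructor
  · rintro ⟨x, rfl⟩
    exact ⟨x.toAdd, rfl⟩
  · rintro ⟨x, rfl⟩
    exact ⟨Multiplicative.ofAdd x, rfl⟩

theorem card_upp : Nat.card (upp F) = Fintype.card F := by
  have hinj : Function.Injective ((pr : SL2 F →* P2 F).comp uu) := by
    rw [injective_iff_map_eq_one]
    intro x hx
    exact pr_uu_eq_one.1 hx
  have h1 := Nat.card_congr (MonoidHom.ofInjective hinj).toEquiv
  have h2 : Nat.card (Multiplicative F) = Fintype.card F := by
    rw [← Nat.card_eq_fintype_card (α := F)]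
    rfl
  rw [← h2, h1]
  rfl

theorem conj_mem_upp (a : Fˣ) {y : P2 F} (hy : y ∈ upp F) : pr (dg a) * y * (pr (dg a))⁻¹ ∈ upp F := by
  rw [mem_upp] at hy ⊢
  obtain ⟨x, rfl⟩ := hy
  refine ⟨(a : F) ^ 2 * x, ?_⟩
  rw [← map_inv, ← map_mul, ← map_mul, dg_conj_uu]

theorem eq_one_of_conj (a : Fˣ) (ha : a ^ 2 ≠ 1) {y : P2 F} (hy : y ∈ upp F)
    (h : pr (dg a) * y * (pr (dg a))⁻¹ = y) : y = 1 := by
  rw [mem_upp] at hy
  obtain ⟨x, rfl⟩ := hy
  rw [← map_inv, ← map_mul, ← map_mul, dg_conj_uu] at h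
  have h1 : pr (uu (Multiplicative.ofAdd ((a : F) ^ 2 * x - x))) = (1 : P2 F) := by
    rw [sub_eq_add_neg, ofAdd_add, ofAdd_neg, map_mul, map_mul, map_inv, map_inv, h, mul_inv_cancel]
  rw [pr_uu_eq_one] at h1
  have h2 : (a : F) ^ 2 * x - x = 0 := h1
  have h3 : ((a : F) ^ 2 - 1) * x = 0 := by linear_combination h2
  rcases mul_eq_zero.1 h3 with h4 | h4
  · exfalso
    apply ha
    apply Units.ext
    rw [Units.val_pow_eq_pow_val, Units.val_one]
    linear_combination h4
  · rw [h4]
    simp only [_root_.ofAdd_zero, _root_.map_one, _root_.QuotientGroup.mk'_apply, _root_.QuotientGroup.mk_one]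

/-- Characteristic two. -/
theorem altV_even (hev : Even (Fintype.card F)) (h4 : 4 ≤ Fintype.card F) : AltV (P2 F) := by
  classical
  have hcard := SmallSimple.PSLTwoPart.card_psl_two_even hev
  obtain ⟨k, _, n, hp, hn⟩ := FiniteField.card' (K := F)
  have hp2 : k = 2 := by
    rw [hn] at hev
    exact (Nat.Prime.even_iff hp).1 ((Nat.even_pow.1 hev).1)
  subst hp2
  have hS : IsPGroup 2 (upp F) := IsPGroup.of_card (n := (n : ℕ)) (by rw [card_upp, hn])
  have hf := Fact.mk Nat.prime_two
  have hind : ¬ 2 ∣ (upp F).index := by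
    have h1 := (upp F).card_mul_index
    rw [card_upp, hcard] at h1
    have h2 : (upp F).index = Fintype.card F ^ 2 - 1 := Nat.eq_of_mul_eq_mul_left (by omega) h1
    rw [h2]
    have h3 : Even (Fintype.card F ^ 2) := hev.pow_of_ne_zero (by norm_num)
    have h5 : 1 ≤ Fintype.card F ^ 2 := Nat.one_le_pow _ _ (by omega)
    obtain ⟨m, hm⟩ := h3
    omega
  obtain ⟨g, hg⟩ := IsCyclic.exists_generator (α := Fˣ)
  have h1 : orderOf g = Fintype.card F - 1 := by
    rw [orderOf_eq_card_of_forall_mem_zpowers hg, Nat.card_eq_fintype_card, Fintype.card_units]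
  obtain ⟨l, hl, hld⟩ := Nat.exists_prime_and_dvd (n := Fintype.card F - 1) (by omega)
  have hl2 : l ≠ 2 := by
    rintro rfl
    obtain ⟨m, hm⟩ := hev
    omega
  set a : Fˣ := g ^ (orderOf g / l) with ha
  have hoa : orderOf a = l := orderOf_pow_orderOf_div (by rw [h1]; omega) (by rw [h1]; exact hld)
  have ha2 : a ^ 2 ≠ 1 := by
    intro h
    have := orderOf_dvd_of_pow_eq_one h
    rw [hoa] at this
    exact hl2 ((Nat.prime_dvd_prime_iff_eq hl Nat.prime_two).1 this)
  refine ⟨hS.toSylow hind, l, pr (dg a), hl, hl2, ?_, ?_, ?_⟩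
  · rw [orderOf_pr_dg, orderOf_pow, hoa, (Nat.coprime_primes hl Nat.prime_two).2 hl2, Nat.div_one]
  · intro e he
    exact conj_mem_upp a he
  · intro e he h
    exact eq_one_of_conj a ha2 he h

theorem two_dvd_card (h4 : 4 ≤ Fintype.card F) : 2 ∣ Nat.card (P2 F) := by
  rcases Nat.even_or_odd (Fintype.card F) with h | h
  · rw [SmallSimple.PSLTwoPart.card_psl_two_even h]
    exact h.two_dvd.mul_right _
  · have h1 := SmallSimple.PSLTwoPart.card_psl_two_odd h
    obtain ⟨k, hk⟩ := h
    obtain ⟨m, hm⟩ : ∃ m, k * (k + 1) = 2 * m := (Nat.even_mul_succ_self k).two_dvd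
    have h2 : Fintype.card F ^ 2 - 1 = 4 * (k * (k + 1)) := by
      rw [hk, Nat.sub_eq_iff_eq_add (Nat.one_le_pow _ _ (by omega))]
      ring
    rw [h2, hm] at h1
    refine ⟨2 * Fintype.card F * m, ?_⟩
    have : 2 * Nat.card (P2 F) = 2 * (2 * (2 * Fintype.card F * m)) := by
      rw [h1]; ring
    omega

theorem exists_noncomm (h4 : 4 ≤ Fintype.card F) : ∃ a b : P2 F, a * b ≠ b * a := by
  classical
  obtain ⟨g, hg⟩ := IsCyclic.exists_generator (α := Fˣ)
  have h1 : orderOf g = Fintype.card F - 1 := by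
    rw [orderOf_eq_card_of_forall_mem_zpowers hg, Nat.card_eq_fintype_card, Fintype.card_units]
  have h2 : g ^ 2 ≠ 1 := by
    intro h
    have := Nat.le_of_dvd (by norm_num) (orderOf_dvd_of_pow_eq_one h)
    omega
  refine ⟨pr (dg g), pr (uu (Multiplicative.ofAdd 1)), ?_⟩
  intro h
  have h3 := eq_one_of_conj g h2 (y := pr (uu (Multiplicative.ofAdd 1))) (mem_upp.2 ⟨1, rfl⟩) (by
    rw [h, mul_inv_cancel_right])
  rw [pr_uu_eq_one] at h3
  exact one_ne_zero (α := F) h3

end Cfsg.Agent.H577
end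

private theorem dce_064dae90ba89 : _root_.True := by
  try have : _root_.True := by simp only [_root_.Cfsg.Agent.H577.actT.congr_simp]
  exact _root_.True.intro
end

-- part: H577/PslAutOddMain
section
prune_inst 0xf8bdffcff98ddfdfff7e7ffedddffdfafdffffffdffbcbfff061ffafdf6b12d9452b8d9fe858ff1ef7629630f87b53fbfffeffef6ffc7ffffdfff41ffbffcfedf7b58851dc8cb40f340fff03f07f8e7f000000000000000000000000000000004200000000
set_option linter.all false
open scoped Cfsg.Agent.FastGrp

-- part: H577/PslOdd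
section
/-!
# `PSL(2, q)`, `q ≡ 3, 5 mod 8`: the normalizer of a Sylow 2-subgroup
-/

set_option autoImplicit false
set_option linter.unusedSectionVars false

namespace Cfsg.Agent.H577

open Matrix Subgroup
open Cfsg.Agent.ClassicalGeometry.AutPSL.Root (pr pr_surjective)
open Psl2

/-- A four-group permuted by an element of order three. -/
theorem altV_of {T : Type*} [Group T] [Finite T] (I J W : T) (hI : I * I = 1) (hJ : J * J = 1)
    (hIJ : J * I = I * J) (hI1 : I ≠ 1) (hJ1 : J ≠ 1) (hne : I ≠ J) (hWI : W * I * W⁻¹ = J)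
    (hWJ : W * J * W⁻¹ = I * J) (hW : W ^ 3 = 1) (h8 : ¬ 8 ∣ Nat.card T) : AltV T := by
  classical
  have hf := Fact.mk Nat.prime_two
  have hf3 := Fact.mk Nat.prime_three
  have e1 : ∀ x, I * (I * x) = x := fun x => by rw [← mul_assoc, hI, one_mul]
  have e2 : ∀ x, J * (J * x) = x := fun x => by rw [← mul_assoc, hJ, one_mul]
  have e3 : ∀ x, J * (I * x) = I * (J * x) := fun x => by rw [← mul_assoc, hIJ, mul_assoc]
  have hIJ1 : I * J ≠ 1 := by
    intro h
    apply hne
    calc I = I * (J * J) := by rw [hJ, mul_one]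
      _ = J := by rw [← mul_assoc, h, one_mul]
  let S : Subgroup T :=
    { carrier := {x | x = 1 ∨ x = I ∨ x = J ∨ x = I * J}
      one_mem' := Or.inl rfl
      mul_mem' := by
        rintro x y (rfl | rfl | rfl | rfl) (rfl | rfl | rfl | rfl) <;>
          simp only [hI, hJ, hIJ, e1, e3, mul_assoc, _root_.mul_one, _root_.Set.mem_ofPred_eq, _root_.true_or, _root_.one_mul, _root_.left_eq_mul, _root_.or_true, _root_.right_eq_mul, _root_.mul_eq_left, _root_.mul_eq_right, _root_.mul_assoc]
      inv_mem' := by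
        have i1 : I⁻¹ = I := inv_eq_of_mul_eq_one_left hI
        have i2 : J⁻¹ = J := inv_eq_of_mul_eq_one_left hJ
        rintro x (rfl | rfl | rfl | rfl) <;> simp [i1, i2, hIJ] }
  have hmem : ∀ x, x ∈ S ↔ (x = 1 ∨ x = I ∨ x = J ∨ x = I * J) := fun x => Iff.rfl
  have hcS : Nat.card S = 4 := by
    have h1 : (S : Set T) = (({1, I, J, I * J} : Finset T) : Set T) := by
      ext x
      simp only [hmem, _root_.SetLike.mem_coe, _root_.Finset.coe_insert, _root_.Finset.coe_singleton, _root_.Set.mem_insert_iff, _root_.Set.mem_singleton_iff]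
    have h2 : Nat.card S = (S : Set T).ncard := rfl
    have n1 : I ≠ I * J := fun h => hJ1 (by
      have : I * 1 = I * J := by rw [mul_one]; exact h
      exact (mul_left_cancel this).symm)
    have n2 : J ≠ I * J := fun h => hI1 (by
      have : 1 * J = I * J := by rw [one_mul]; exact h
      exact (mul_right_cancel this).symm)
    rw [h2, h1, Set.ncard_coe_finset]
    rw [Finset.card_insert_of_notMem, Finset.card_insert_of_notMem, Finset.card_insert_of_notMem,
      Finset.card_singleton]
    · simpa using n2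
    · simp only [Finset.mem_insert, Finset.mem_singleton, not_or]
      exact ⟨hne, n1⟩
    · simp only [Finset.mem_insert, Finset.mem_singleton, not_or]
      exact ⟨hI1.symm, hJ1.symm, hIJ1.symm⟩
  have hSp : IsPGroup 2 S := IsPGroup.of_card (n := 2) (by rw [hcS]; norm_num)
  have hind : ¬ 2 ∣ S.index := by
    intro h
    apply h8
    rw [← S.card_mul_index, hcS]
    obtain ⟨m, hm⟩ := h
    exact ⟨m, by rw [hm]; ring⟩
  have hW1 : W ≠ 1 := by
    rintro rfl
    apply hne
    simpa using hWI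
  have hWIJ : W * (I * J) * W⁻¹ = I := by
    calc W * (I * J) * W⁻¹ = (W * I * W⁻¹) * (W * J * W⁻¹) := by group
      _ = J * (I * J) := by rw [hWI, hWJ]
      _ = I := by rw [e3, hJ, mul_one]
  refine ⟨hSp.toSylow hind, 3, W, Nat.prime_three, by norm_num, orderOf_eq_prime hW hW1, ?_, ?_⟩
  · intro e he
    have he' : e = 1 ∨ e = I ∨ e = J ∨ e = I * J := he
    show W * e * W⁻¹ = 1 ∨ W * e * W⁻¹ = I ∨ W * e * W⁻¹ = J ∨ W * e * W⁻¹ = I * J
    rcases he' with rfl | rfl | rfl | rfl
    · left; simp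
    · right; right; left; exact hWI
    · right; right; right; exact hWJ
    · right; left; exact hWIJ
  · intro e he h
    have he' : e = 1 ∨ e = I ∨ e = J ∨ e = I * J := he
    rcases he' with h1 | h1 | h1 | h1
    · exact h1
    · exfalso
      rw [h1, hWI] at h
      exact hne h.symm
    · exfalso
      rw [h1, hWJ] at h
      apply hI1
      have : I * J = 1 * J := by rw [one_mul]; exact h
      exact mul_right_cancel this
    · exfalso
      rw [h1, hWIJ] at h
      apply hJ1
      have : I * 1 = I * J := by rw [mul_one]; exact h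
      exact (mul_left_cancel this).symm

variable {F : Type*} [Field F] [Fintype F]

theorem two_ne_zero_of_odd (h : Odd (Fintype.card F)) : (2 : F) ≠ 0 :=
  (ClassicalGeometry.PSLTorus.two_ne_zero_iff_odd F).2 h

theorem altV_odd (h8 : Fintype.card F % 8 = 3 ∨ Fintype.card F % 8 = 5) : AltV (P2 F) := by
  have hodd : Odd (Fintype.card F) := by
    rw [Nat.odd_iff]; omega
  have h2 := two_ne_zero_of_odd hodd
  obtain ⟨a, b, hab⟩ := Lib.PSL2Torus.exists_sum_sq h2 (-1 : F)
  obtain ⟨h, hh⟩ : ∃ h : F, 2 * h = 1 := ⟨2⁻¹, mul_inv_cancel₀ h2⟩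
  have hcard := SmallSimple.PSLTwoPart.card_psl_two_odd hodd
  obtain ⟨i, hi⟩ : ∃ i : SL2 F, i = m2 0 1 (-1) 0 (by ring) := ⟨_, rfl⟩
  obtain ⟨j, hj⟩ : ∃ j : SL2 F, j = m2 a b b (-a) (by linear_combination -hab) := ⟨_, rfl⟩
  obtain ⟨k, hk⟩ : ∃ k : SL2 F, k = m2 b (-a) (-a) (-b) (by linear_combination -hab) := ⟨_, rfl⟩
  obtain ⟨w, hw⟩ : ∃ w : SL2 F, w = m2 (-h * (1 + a + b)) (-h * (1 + b - a)) (-h * (b - a - 1))
      (-h * (1 - a - b)) (by linear_combination (2 * h + 1) * hh - 2 * h ^ 2 * hab) := ⟨_, rfl⟩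
  have r1 : i * i = -1 := by
    rw [hi]
    refine m2_mul.trans (Eq.trans ?_ ((congrArg Neg.neg m2_one).trans m2_neg).symm)
    apply m2_ext <;> ring
  have r2 : j * j = -1 := by
    rw [hj]
    refine m2_mul.trans (Eq.trans ?_ ((congrArg Neg.neg m2_one).trans m2_neg).symm)
    apply m2_ext
    · linear_combination hab
    · ring
    · ring
    · linear_combination hab
  have r0 : i * j = k := by
    rw [hi, hj, hk]
    refine m2_mul.trans ?_
    apply m2_ext <;> ring
  have r3 : j * i = -k := by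
    rw [hi, hj, hk]
    refine m2_mul.trans (Eq.trans ?_ m2_neg.symm)
    apply m2_ext <;> ring
  have r4 : w * i = j * w := by
    rw [hi, hj, hw]
    refine m2_mul.trans (Eq.trans ?_ m2_mul.symm)
    apply m2_ext
    · linear_combination h * hab
    · linear_combination -h * hab
    · linear_combination h * hab
    · linear_combination h * hab
  have r5 : w * j = k * w := by
    rw [hk, hj, hw]
    refine m2_mul.trans (Eq.trans ?_ m2_mul.symm)
    apply m2_ext <;> ring
  have r6 : w * w = w⁻¹ := by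
    rw [hw]
    refine m2_mul.trans (Eq.trans ?_ m2_inv.symm)
    apply m2_ext
    · linear_combination 2 * h ^ 2 * hab - h * (1 - a - b) * hh
    · linear_combination h * (1 - a + b) * hh
    · linear_combination -h * (1 - b + a) * hh
    · linear_combination 2 * h ^ 2 * hab - h * (1 + a + b) * hh
  have hm1 : pr (-1 : SL2 F) = 1 := by
    rw [pr_eq_one_iff]; right; rfl
  have hneg : ∀ x : SL2 F, pr (-x) = pr x := fun x => by
    rw [pr_eq_iff]; right; rfl
  refine altV_of (pr i) (pr j) (pr w) ?_ ?_ ?_ ?_ ?_ ?_ ?_ ?_ ?_ ?_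
  · rw [← map_mul, r1, hm1]
  · rw [← map_mul, r2, hm1]
  · rw [← map_mul, ← map_mul, r3, r0, hneg]
  · rw [hi, Ne, pr_m2_eq_one]
    rintro ⟨h1, -, -⟩
    exact one_ne_zero h1
  · rw [hj, Ne, pr_m2_eq_one]
    rintro ⟨h1, -, h3⟩
    have h4 : (2 : F) * a = 0 := by linear_combination h3
    rcases mul_eq_zero.1 h4 with h5 | h5
    · exact h2 h5
    · rw [h1, h5] at hab
      apply one_ne_zero (α := F)
      linear_combination hab
  · rw [hi, hj, Ne, pr_eq_iff, m2_neg]
    rintro (h1 | h1)
    · obtain ⟨e1, e2, e3, e4⟩ := m2_inj h1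
      apply h2
      linear_combination e2 - e3
    · obtain ⟨e1, e2, e3, e4⟩ := m2_inj h1
      apply h2
      linear_combination e2 - e3
  · rw [mul_inv_eq_iff_eq_mul, ← map_mul, ← map_mul, r4]
  · rw [mul_inv_eq_iff_eq_mul, ← map_mul, ← map_mul, ← map_mul, r0, r5]
  · rw [← map_pow, pow_succ, pow_two, r6, inv_mul_cancel, map_one]
  · rintro ⟨m, hm⟩
    rw [hm] at hcard
    have h1 : Fintype.card F * (Fintype.card F ^ 2 - 1) % 16 = 0 := by rw [← hcard]; omega
    obtain ⟨n, hn⟩ : ∃ n, Fintype.card F = 8 * n + 3 ∨ Fintype.card F = 8 * n + 5 := by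
      rcases h8 with h | h
      · exact ⟨Fintype.card F / 8, Or.inl (by omega)⟩
      · exact ⟨Fintype.card F / 8, Or.inr (by omega)⟩
    rcases hn with hn | hn
    · have e : Fintype.card F * (Fintype.card F ^ 2 - 1) = 16 * (32 * n ^ 3 + 36 * n ^ 2 + 13 * n + 1) + 8 := by
        rw [hn]
        have : (8 * n + 3) ^ 2 - 1 = 64 * n ^ 2 + 48 * n + 8 := by
          rw [Nat.sub_eq_iff_eq_add (Nat.one_le_pow _ _ (by omega))]; ring
        rw [this]; ring
      omega
    · have e : Fintype.card F * (Fintype.card F ^ 2 - 1) = 16 * (32 * n ^ 3 + 60 * n ^ 2 + 37 * n + 7) + 8 := by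
        rw [hn]
        have : (8 * n + 5) ^ 2 - 1 = 64 * n ^ 2 + 80 * n + 24 := by
          rw [Nat.sub_eq_iff_eq_add (Nat.one_le_pow _ _ (by omega))]; ring
        rw [this]; ring
      omega

/-- an element of order `2 r` -/
theorem exists_two_mul (h8 : Fintype.card F % 8 = 3 ∨ Fintype.card F % 8 = 5) (h5 : 5 < Fintype.card F) :
    ∃ r : ℕ, r.Prime ∧ r ≠ 2 ∧ (r ∣ Fintype.card F + 1 ∨ r ∣ Fintype.card F - 1) ∧ Ord (P2 F) (2 * r) := by
  have hg : Nat.gcd 2 (Fintype.card F - 1) = 2 := by
    apply Nat.gcd_eq_left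
    omega
  rcases h8 with h | h
  · have h1 := ord_plus (F := F)
    rw [hg] at h1
    obtain ⟨r, hr, hrd⟩ := Nat.exists_prime_and_dvd (n := (Fintype.card F + 1) / 4) (by omega)
    have hr2 : r ≠ 2 := by
      rintro rfl
      omega
    obtain ⟨m, hm⟩ := hrd
    refine ⟨r, hr, hr2, Or.inl ⟨4 * m, ?_⟩, h1.dvd ?_⟩
    · have : r * (4 * m) = 4 * (r * m) := by ring
      rw [this, ← hm]; omega
    · exact ⟨m, by rw [mul_assoc, ← hm]; omega⟩
  · have h1 := ord_minus (F := F)
    rw [hg] at h1
    obtain ⟨r, hr, hrd⟩ := Nat.exists_prime_and_dvd (n := (Fintype.card F - 1) / 4) (by omega)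
    have hr2 : r ≠ 2 := by
      rintro rfl
      omega
    obtain ⟨m, hm⟩ := hrd
    refine ⟨r, hr, hr2, Or.inr ⟨4 * m, ?_⟩, h1.dvd ?_⟩
    · have : r * (4 * m) = 4 * (r * m) := by ring
      rw [this, ← hm]; omega
    · exact ⟨m, by rw [mul_assoc, ← hm]; omega⟩

theorem notEven_odd (h8 : Fintype.card F % 8 = 3 ∨ Fintype.card F % 8 = 5) (h5 : 5 < Fintype.card F) :
    NotEven (P2 F) := by
  obtain ⟨r, h1, h2, -, h3⟩ := exists_two_mul h8 h5
  exact Or.inl ⟨r, h1, h2, h3⟩

/-- a Frobenius subgroup with kernel `upp F` -/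
theorem notEven_seven_nine {l : ℕ} (hl : l = 3 ∨ l = 4) (hF : Fintype.card F = 2 * l + 1) :
    NotEven (P2 F) := by
  classical
  right
  obtain ⟨g, hg⟩ := IsCyclic.exists_generator (α := Fˣ)
  have h1 : orderOf g = 2 * l := by
    rw [orderOf_eq_card_of_forall_mem_zpowers hg, Nat.card_eq_fintype_card, Fintype.card_units, hF]
    rfl
  refine ⟨upp F, pr (dg g), l, hl, ?_, ?_, ?_, ?_, ?_⟩
  · rw [orderOf_pr_dg, orderOf_pow, h1, Nat.gcd_mul_right_left, Nat.mul_div_cancel_left _ (by norm_num)]
  · intro h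
    have h2 := card_upp (F := F)
    rw [h, Subgroup.card_bot] at h2
    omega
  · rw [card_upp, hF]
    exact ⟨l, rfl⟩
  · intro e he
    exact conj_mem_upp g he
  · intro i hi0 hil e he h
    rw [← map_pow, ← map_pow] at h
    refine eq_one_of_conj (g ^ i) ?_ he h
    rw [← pow_mul]
    intro h2
    have h3 := Nat.le_of_dvd (by omega) (orderOf_dvd_of_pow_eq_one h2)
    omega

end Cfsg.Agent.H577
end

-- part: H577/PslAut
section
/-!
# Groups between `PSL(2, F)` and its automorphism group: tools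
-/

set_option autoImplicit false
set_option linter.unusedSectionVars false

namespace Cfsg.Agent.H577

open Matrix Subgroup
open Cfsg.Agent.ClassicalGeometry.AutPSL.Root (pr pr_surjective)
open Cfsg.Agent.ClassicalGeometry.AutPSL.Auto (cj fld lift itr coe_cj coe_fld_apply lift_pr)
open Cfsg.Agent.ClassicalGeometry.AutPSL.Main (cj_eq_one_of_scalar injective_aux surj_two surj_three)
open Psl2

section general

variable {ι F : Type*} [Fintype ι] [DecidableEq ι] [Field F]

/-- an element of `SL` as an element of `GL` -/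
def sg (M : Matrix.SpecialLinearGroup ι F) : GL ι F where
  val := M.1
  inv := (M⁻¹).1
  val_inv := congrArg Subtype.val (mul_inv_cancel M)
  inv_val := congrArg Subtype.val (inv_mul_cancel M)

theorem lift_cj_sg (M : Matrix.SpecialLinearGroup ι F) : lift (cj (sg M)) = MulAut.conj (pr M) := by
  apply MulEquiv.ext
  intro x
  obtain ⟨y, rfl⟩ := pr_surjective x
  rfl

theorem lift_fld_pr (σ : F ≃+* F) (M : Matrix.SpecialLinearGroup ι F) :
    lift (fld σ) (pr M) = pr (fld σ M) := rfl

/-- `φ ∘ conj x = conj (φ x) ∘ φ` -/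
theorem aut_mul_conj {T : Type*} [Group T] (φ : MulAut T) (x : T) :
    φ * MulAut.conj x = MulAut.conj (φ x) * φ := by
  apply MulEquiv.ext
  intro y
  show φ (x * y * x⁻¹) = φ x * φ y * (φ x)⁻¹
  rw [map_mul, map_mul, map_inv]

theorem cj_eq_of_smul {A B : GL ι F} {r : F} (h : (A : Matrix ι ι F) = r • (B : Matrix ι ι F)) :
    cj A = cj B := by
  have h1 : cj (A * B⁻¹) = 1 := by
    apply cj_eq_one_of_scalar (r := r)
    rw [Units.val_mul, h, smul_mul_assoc, ← Units.val_mul, mul_inv_cancel, Units.val_one, smul_one_eq_diagonal]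
    rfl
  rw [map_mul, map_inv, mul_inv_eq_one] at h1
  exact h1

theorem fld_mul_cj (σ : F ≃+* F) (A : GL ι F) :
    fld σ * cj A = cj (Matrix.GeneralLinearGroup.map (σ : F →+* F) A) * fld σ := by
  apply MulEquiv.ext
  intro y
  apply Subtype.ext
  show (((σ : F →+* F).mapMatrix ((A : Matrix ι ι F) * y.1 * ((A⁻¹ : GL ι F) : Matrix ι ι F)))) =
    ((σ : F →+* F).mapMatrix (A : Matrix ι ι F)) * ((σ : F →+* F).mapMatrix y.1) *
      (((σ : F →+* F).mapMatrix ((A⁻¹ : GL ι F) : Matrix ι ι F)))
  rw [map_mul, map_mul]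

end general

variable {F : Type*} [Field F]

/-- the element of `GL(2, F)` with rows `a b`, `c d` -/
noncomputable def g2 (a b c d : F) (h : a * d - b * c ≠ 0) : GL (Fin 2) F :=
  Matrix.GeneralLinearGroup.mkOfDetNeZero !![a, b; c, d] (by rw [det_fin_two_of]; exact h)

theorem g2_coe (a b c d : F) (h : a * d - b * c ≠ 0) :
    ((g2 a b c d h : GL (Fin 2) F) : Matrix (Fin 2) (Fin 2) F) = !![a, b; c, d] := rfl

theorem g2_mul {a b c d a' b' c' d' : F} {h : a * d - b * c ≠ 0} {h' : a' * d' - b' * c' ≠ 0} :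
    g2 a b c d h * g2 a' b' c' d' h' =
      g2 (a * a' + b * c') (a * b' + b * d') (c * a' + d * c') (c * b' + d * d') (by
        have := mul_ne_zero h h'
        intro h0
        apply this
        linear_combination h0) := by
  apply Units.ext
  exact (Units.val_mul _ _).trans (((congrArg₂ (· * ·) (g2_coe _ _ _ _ h) (g2_coe _ _ _ _ h')).trans
    (mul_fin_two a b c d a' b' c' d')).trans (g2_coe _ _ _ _ _).symm)

theorem map_g2 (σ : F ≃+* F) {a b c d : F} {h : a * d - b * c ≠ 0} :
    Matrix.GeneralLinearGroup.map (σ : F →+* F) (g2 a b c d h) = g2 (σ a) (σ b) (σ c) (σ d) (by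
      rw [← map_mul, ← map_mul, ← map_sub]
      intro h0
      apply h
      rwa [map_eq_zero_iff σ σ.injective] at h0) := by
  apply Units.ext
  show ((σ : F →+* F).mapMatrix !![a, b; c, d]) = !![σ a, σ b; σ c, σ d]
  ext i j
  fin_cases i <;> fin_cases j <;> rfl

/-- changing the matrix without changing the class of the determinant modulo squares -/
theorem mem_of_det {Y : Subgroup (MulAut (P2 F))} (hY : ∀ x : P2 F, MulAut.conj x ∈ Y) {A B : GL (Fin 2) F}
    {σ : F ≃+* F} (h : lift (cj A * fld σ) ∈ Y) (hs : ∃ s : F, (B : Matrix (Fin 2) (Fin 2) F).det =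
      s ^ 2 * (A : Matrix (Fin 2) (Fin 2) F).det) : lift (cj B * fld σ) ∈ Y := by
  obtain ⟨s, hs⟩ := hs
  have hA : (A : Matrix (Fin 2) (Fin 2) F).det ≠ 0 := by
    intro h0
    have h1 : (A : Matrix (Fin 2) (Fin 2) F).det * ((A⁻¹ : GL (Fin 2) F) : Matrix (Fin 2) (Fin 2) F).det = 1 := by
      rw [← det_mul, ← Units.val_mul, mul_inv_cancel, Units.val_one, det_one]
    rw [h0, zero_mul] at h1
    exact zero_ne_one h1
  have hB : (B : Matrix (Fin 2) (Fin 2) F).det ≠ 0 := by
    intro h0
    have h1 : (B : Matrix (Fin 2) (Fin 2) F).det * ((B⁻¹ : GL (Fin 2) F) : Matrix (Fin 2) (Fin 2) F).det = 1 := by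
      rw [← det_mul, ← Units.val_mul, mul_inv_cancel, Units.val_one, det_one]
    rw [h0, zero_mul] at h1
    exact zero_ne_one h1
  have hs0 : s ≠ 0 := by
    rintro rfl
    apply hB
    rw [hs]; ring
  have hAi : (A : Matrix (Fin 2) (Fin 2) F).det * ((A⁻¹ : GL (Fin 2) F) : Matrix (Fin 2) (Fin 2) F).det = 1 := by
    rw [← det_mul, ← Units.val_mul, mul_inv_cancel, Units.val_one, det_one]
  let M : SL2 F := ⟨s⁻¹ • ((B * A⁻¹ : GL (Fin 2) F) : Matrix (Fin 2) (Fin 2) F), by
    rw [det_smul, Units.val_mul, det_mul, hs, Fintype.card_fin, mul_assoc (s ^ 2), hAi, mul_one, inv_pow,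
      inv_mul_cancel₀ (pow_ne_zero 2 hs0)]⟩
  have hM : cj B = cj (sg M) * cj A := by
    rw [← map_mul]
    apply cj_eq_of_smul (r := s)
    show (B : Matrix (Fin 2) (Fin 2) F) = s • ((s⁻¹ • ((B * A⁻¹ : GL (Fin 2) F) : Matrix (Fin 2) (Fin 2) F)) *
      (A : Matrix (Fin 2) (Fin 2) F))
    rw [smul_mul_assoc, smul_smul, mul_inv_cancel₀ hs0, one_smul, ← Units.val_mul, inv_mul_cancel_right]
  rw [hM, mul_assoc, map_mul, lift_cj_sg]
  exact Y.mul_mem (hY _) h

/-- the field automorphism part, if the determinant is a square -/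
theorem fld_mem_of_isSquare {Y : Subgroup (MulAut (P2 F))} (hY : ∀ x : P2 F, MulAut.conj x ∈ Y) {A : GL (Fin 2) F}
    {σ : F ≃+* F} (h : lift (cj A * fld σ) ∈ Y) {s : F} (hs : (A : Matrix (Fin 2) (Fin 2) F).det = s ^ 2) :
    lift (fld σ) ∈ Y := by
  have hs0 : s ≠ 0 := by
    rintro rfl
    have h1 : (A : Matrix (Fin 2) (Fin 2) F).det * ((A⁻¹ : GL (Fin 2) F) : Matrix (Fin 2) (Fin 2) F).det = 1 := by
      rw [← det_mul, ← Units.val_mul, mul_inv_cancel, Units.val_one, det_one]
    rw [hs] at h1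
    simp only [_root_.ne_eq, _root_.OfNat.ofNat_ne_zero, _root_.not_false_eq_true, _root_.zero_pow, _root_.Matrix.coe_units_inv, _root_.Matrix.det_nonsing_inv, _root_.Ring.inverse_eq_inv', _root_.MulZeroClass.zero_mul, _root_.zero_ne_one] at h1
  have h1 := mem_of_det hY (B := 1) h ⟨s⁻¹, by
    rw [hs, inv_pow, inv_mul_cancel₀ (pow_ne_zero 2 hs0), Units.val_one, det_one]⟩
  rwa [map_one, one_mul] at h1

theorem fld_injective {σ τ : F ≃+* F} (h : lift (fld σ : MulAut (SL2 F)) = lift (fld τ)) : σ = τ := by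
  have h1 : lift (cj (1 : GL (Fin 2) F) * fld σ) = lift (fld τ) := by rw [map_one, one_mul]; exact h
  exact (injective_aux h1).2

/-- order of a field automorphism -/
theorem orderOf_fld (σ : F ≃+* F) : orderOf (lift (fld σ : MulAut (SL2 F))) = orderOf σ := by
  rw [orderOf_eq_orderOf_iff]
  intro n
  rw [← map_pow, ← map_pow]
  constructor
  · intro h
    apply fld_injective
    rw [h, map_one, map_one]
  · intro h
    rw [h, map_one, map_one]

theorem cj_ne_one {C : GL (Fin 2) F} (h : ¬ ∃ r : F, scalar (Fin 2) r = (C : Matrix (Fin 2) (Fin 2) F)) :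
    lift (cj C) ≠ 1 := by
  intro h1
  apply h
  have h2 : lift (cj C * fld (1 : F ≃+* F)) = lift (fld 1) := by rw [map_one, mul_one, h1, map_one]
  exact (injective_aux h2).1

end Cfsg.Agent.H577
end

-- part: H577/PslAutTwo
section
/-!
# `Few` groups between `PSL(2, F)` and its automorphism group
-/

set_option autoImplicit false
set_option linter.unusedSectionVars false

namespace Cfsg.Agent.H577

open Matrix Subgroup
open Cfsg.Agent.ClassicalGeometry.AutPSL.Root (pr pr_surjective)
open Cfsg.Agent.ClassicalGeometry.AutPSL.Auto (cj fld lift itr coe_cj coe_fld_apply lift_pr)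
open Cfsg.Agent.ClassicalGeometry.AutPSL.Main (cj_eq_one_of_scalar injective_aux surj_two surj_three)
open Psl2

/-- The reduction from extensions to subgroups of the automorphism group. -/
theorem eq_top_of_aut {X P : Type*} [Group X] [Finite X] [Group P] (T : Subgroup X) [T.Normal]
    (hc : centralizer (T : Set X) = ⊥) (e : T ≃* P) (hX : Few X)
    (hmain : ∀ Y : Subgroup (MulAut P), (∀ x : P, MulAut.conj x ∈ Y) → Few Y →
      ∀ α ∈ Y, ∃ x : P, α = MulAut.conj x) : T = ⊤ := by
  let Φ : X →* MulAut P := (MulAut.congr e).toMonoidHom.comp MulAut.conjNormal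
  have hΦ : ∀ (x : X) (t : T), Φ x (e t) = e (MulAut.conjNormal x t) := by
    intro x t
    show e (MulAut.conjNormal x (e.symm (e t))) = _
    rw [e.symm_apply_apply]
  have hinj : Function.Injective Φ := by
    rw [injective_iff_map_eq_one]
    intro x hx
    have h1 : x ∈ centralizer (T : Set X) := by
      rw [mem_centralizer_iff]
      intro t ht
      have h2 := hΦ x ⟨t, ht⟩
      rw [hx] at h2
      have h3 := e.injective h2
      have h4 := congrArg Subtype.val h3
      rw [MulAut.conjNormal_apply] at h4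
      have h5 : t = x * t * x⁻¹ := h4
      rw [eq_mul_inv_iff_mul_eq] at h5
      exact h5
    rw [hc, Subgroup.mem_bot] at h1
    exact h1
  have hconj : ∀ t : T, Φ (t : X) = MulAut.conj (e t) := by
    intro t
    apply MulEquiv.ext
    intro y
    obtain ⟨s, rfl⟩ := e.surjective y
    rw [hΦ]
    show _ = e t * e s * (e t)⁻¹
    rw [← map_mul, ← map_inv, ← map_mul]
    congr 1
  have hY := hmain Φ.range (fun x => by
    obtain ⟨t, rfl⟩ := e.surjective x
    exact ⟨t, hconj t⟩) (by
    have := hX.of_injective (MonoidHom.ofInjective hinj).symm.toMonoidHom (MonoidHom.ofInjective hinj).symm.injective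
    exact this)
  rw [eq_top_iff]
  intro x _
  obtain ⟨y, hy⟩ := hY (Φ x) ⟨x, rfl⟩
  obtain ⟨t, rfl⟩ := e.surjective y
  rw [← hconj] at hy
  rw [hinj hy]
  exact t.2

section

variable {F : Type*} [Field F]

theorem conj_injective {T : Type*} [Group T] [hs : IsSimpleGroup T] (hn : ∃ a b : T, a * b ≠ b * a) :
    Function.Injective (MulAut.conj : T →* MulAut T) := by
  rw [injective_iff_map_eq_one]
  intro z hz
  exact center_eq_one hn (fun g => by
    have h1 : MulAut.conj z g = g := by rw [hz]; rfl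
    rw [MulAut.conj_apply, mul_inv_eq_iff_eq_mul] at h1
    rw [mul_inv_eq_iff_eq_mul, h1])

/-- orders of commuting products -/
theorem commute_fld {σ : F ≃+* F} {M : SL2 F} (h : fld σ M = M) :
    Commute (MulAut.conj (pr M)) (lift (fld σ)) := by
  have h1 := aut_mul_conj (lift (fld σ)) (pr M)
  rw [lift_fld_pr, h] at h1
  exact h1.symm

/-- the order three element -/
def m3 (F : Type*) [Field F] : SL2 F := m2 0 1 (-1) (-1) (by ring)

theorem fld_m2 (σ : F ≃+* F) {a b c d : F} {h : a * d - b * c = 1} :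
    fld σ (m2 a b c d h) = m2 (σ a) (σ b) (σ c) (σ d) (by rw [← map_mul, ← map_mul, ← map_sub, h, map_one]) := by
  apply Subtype.ext
  show ((σ : F →+* F).mapMatrix !![a, b; c, d]) = !![σ a, σ b; σ c, σ d]
  ext i j
  fin_cases i <;> fin_cases j <;> rfl

theorem fld_m3 (σ : F ≃+* F) : fld σ (m3 F) = m3 F := by
  rw [m3, fld_m2]
  apply m2_ext <;> simp only [_root_.map_zero, _root_.map_one, _root_.RingEquiv.map_neg_one]

theorem orderOf_m3 : orderOf (pr (m3 F)) = 3 := by
  have h3 := Fact.mk Nat.prime_three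
  apply orderOf_eq_prime
  · rw [← map_pow, pow_succ, pow_two, m3, m2_mul, m2_mul, pr_m2_eq_one]
    refine ⟨by ring, by ring, by ring⟩
  · rw [Ne, m3, pr_m2_eq_one]
    rintro ⟨h, -, -⟩
    exact one_ne_zero h

/-- the order two element -/
def mw (F : Type*) [Field F] : SL2 F := m2 0 1 (-1) 0 (by ring)

theorem fld_mw (σ : F ≃+* F) : fld σ (mw F) = mw F := by
  rw [mw, fld_m2]
  apply m2_ext <;> simp only [_root_.map_zero, _root_.map_one, _root_.RingEquiv.map_neg_one]

theorem orderOf_mw : orderOf (pr (mw F)) = 2 := by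
  have h3 := Fact.mk Nat.prime_two
  apply orderOf_eq_prime
  · rw [← map_pow, pow_two, mw, m2_mul, pr_m2_eq_one]
    refine ⟨by ring, by ring, by ring⟩
  · rw [Ne, mw, pr_m2_eq_one]
    rintro ⟨h, -, -⟩
    exact one_ne_zero h

theorem ord_of_pr {Y : Subgroup (MulAut (P2 F))} (hY : ∀ x : P2 F, MulAut.conj x ∈ Y)
    (hi : Function.Injective (MulAut.conj : P2 F →* MulAut (P2 F))) {n : ℕ} (h : Ord (P2 F) n) : Ord Y n := by
  obtain ⟨x, rfl⟩ := h
  refine ⟨⟨MulAut.conj x, hY x⟩, ?_⟩
  rw [← Subgroup.orderOf_coe]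
  exact orderOf_injective _ hi x

theorem ord_of_fixed {Y : Subgroup (MulAut (P2 F))} (hY : ∀ x : P2 F, MulAut.conj x ∈ Y)
    (hi : Function.Injective (MulAut.conj : P2 F →* MulAut (P2 F))) {σ : F ≃+* F} (hσ : lift (fld σ) ∈ Y)
    {M : SL2 F} (hM : fld σ M = M) {m r : ℕ} (hm : orderOf (pr M) = m) (hr : orderOf σ = r) (hc : m.Coprime r) :
    Ord Y (m * r) := by
  have h1 : orderOf (MulAut.conj (pr M)) = m := by
    rw [← hm]
    exact orderOf_injective _ hi _
  have h2 : orderOf (lift (fld σ : MulAut (SL2 F))) = r := by rw [orderOf_fld, hr]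
  refine ⟨⟨MulAut.conj (pr M) * lift (fld σ), Y.mul_mem (hY _) hσ⟩, ?_⟩
  rw [← Subgroup.orderOf_coe]
  show orderOf (MulAut.conj (pr M) * lift (fld σ)) = _
  rw [(commute_fld hM).orderOf_mul_eq_mul_orderOf_of_coprime (by rw [h1, h2]; exact hc), h1, h2]

theorem ord_of_fld {Y : Subgroup (MulAut (P2 F))} {σ : F ≃+* F} (hσ : lift (fld σ) ∈ Y) {r : ℕ}
    (hr : orderOf σ = r) : Ord Y r := by
  refine ⟨⟨lift (fld σ), hσ⟩, ?_⟩
  rw [← Subgroup.orderOf_coe]
  show orderOf (lift (fld σ)) = _
  rw [orderOf_fld, hr]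

/-- powers of `σ` of prime order -/
theorem exists_prime_fld [Finite F] {Y : Subgroup (MulAut (P2 F))} {σ : F ≃+* F} (hσ : lift (fld σ) ∈ Y)
    (h1 : σ ≠ 1) : ∃ (r : ℕ) (τ : F ≃+* F), r.Prime ∧ orderOf τ = r ∧ lift (fld τ) ∈ Y ∧
      Nat.card F = Nat.card {x : F // τ x = x} ^ r := by
  have h2 : orderOf σ ≠ 1 := fun h => h1 (orderOf_eq_one_iff.1 h)
  have hfin : Finite (F ≃+* F) := Finite.of_injective (fun σ : F ≃+* F => (σ : F → F)) DFunLike.coe_injective
  have h0 : orderOf σ ≠ 0 := (orderOf_pos σ).ne'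
  obtain ⟨r, hr, hrd⟩ := Nat.exists_prime_and_dvd h2
  have h3 : orderOf (σ ^ (orderOf σ / r)) = r := orderOf_pow_orderOf_div h0 hrd
  refine ⟨r, σ ^ (orderOf σ / r), hr, h3, ?_, ?_⟩
  · rw [map_pow, map_pow]
    exact Y.pow_mem hσ _
  · have := StdL2.FGal.card_fixed (σ ^ (orderOf σ / r))
    rwa [h3] at this

/-- the case of prime order different from 2 and 3 -/
theorem false_of_fld {Y : Subgroup (MulAut (P2 F))} (hY : ∀ x : P2 F, MulAut.conj x ∈ Y)
    (hi : Function.Injective (MulAut.conj : P2 F →* MulAut (P2 F))) (hF : Few Y) {τ : F ≃+* F}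
    (hτ : lift (fld τ) ∈ Y) {r : ℕ} (hr : r.Prime) (hr2 : r ≠ 2) (hr3 : r ≠ 3) (ho : orderOf τ = r) : False := by
  have h1 := ord_of_fld hτ ho
  have h2 := ord_of_fixed hY hi hτ (fld_mw τ) orderOf_mw ho ((Nat.coprime_primes Nat.prime_two hr).2 hr2.symm)
  have h3 := ord_of_fixed hY hi hτ (fld_m3 τ) orderOf_m3 ho ((Nat.coprime_primes Nat.prime_three hr).2 hr3.symm)
  have := hr.pos
  exact hF.false hr h1 h2 h3 (by omega) (by omega) (by omega) dvd_rfl (Dvd.intro_left _ rfl) (Dvd.intro_left _ rfl)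

end

section even

variable {F : Type*} [Field F] [Fintype F]

/-- square determinant: the automorphism is inner times field -/
theorem conj_of_det_sq {A : GL (Fin 2) F} {s : F} (hs : (A : Matrix (Fin 2) (Fin 2) F).det = s ^ 2) :
    ∃ x : P2 F, lift (cj A) = MulAut.conj x := by
  have hs0 : s ≠ 0 := by
    rintro rfl
    have h1 : (A : Matrix (Fin 2) (Fin 2) F).det * ((A⁻¹ : GL (Fin 2) F) : Matrix (Fin 2) (Fin 2) F).det = 1 := by
      rw [← det_mul, ← Units.val_mul, mul_inv_cancel, Units.val_one, det_one]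
    rw [hs] at h1
    simp only [_root_.ne_eq, _root_.OfNat.ofNat_ne_zero, _root_.not_false_eq_true, _root_.zero_pow, _root_.Matrix.coe_units_inv, _root_.Matrix.det_nonsing_inv, _root_.Ring.inverse_eq_inv', _root_.MulZeroClass.zero_mul, _root_.zero_ne_one] at h1
  have h1 : lift (cj A * fld 1) ∈ (MulAut.conj : P2 F →* MulAut (P2 F)).range := by
    refine mem_of_det (A := 1) (fun x => MonoidHom.mem_range.2 ⟨x, rfl⟩) ?_
      ⟨s, by rw [Units.val_one, det_one, mul_one, hs]⟩
    rw [map_one, map_one, one_mul, map_one]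
    exact one_mem _
  rw [map_one, mul_one] at h1
  obtain ⟨x, hx⟩ := h1
  exact ⟨x, hx.symm⟩

/-- **`q` even.** -/
theorem aut_even (hev : Even (Fintype.card F)) (h4 : 4 ≤ Fintype.card F) (Y : Subgroup (MulAut (P2 F)))
    (hY : ∀ x : P2 F, MulAut.conj x ∈ Y) (hF : Few Y) : ∀ α ∈ Y, ∃ x : P2 F, α = MulAut.conj x := by
  classical
  intro α hα
  obtain ⟨p, hchar, n, hp, hn⟩ := FiniteField.card' (K := F)
  have hp2 : p = 2 := by
    rw [hn] at hev
    exact (Nat.Prime.even_iff hp).1 ((Nat.even_pow.1 hev).1)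
  subst hp2
  have hf := Fact.mk Nat.prime_two
  have hs := TwoFusion.SLTwoFacts.isSimpleGroup_psl (F := F) (by omega)
  have hi := conj_injective (exists_noncomm (F := F) h4)
  obtain ⟨A, σ, rfl⟩ := surj_two 2 α
  obtain ⟨s, hs⟩ := FiniteField.isSquare_of_char_two (F := F) (ringChar.eq F 2) ((A : Matrix (Fin 2) (Fin 2) F).det)
  rw [← pow_two] at hs
  have hσ := fld_mem_of_isSquare hY hα hs
  by_cases h1 : σ = 1
  · subst h1
    rw [map_one, mul_one]
    exact conj_of_det_sq hs
  · exfalso
    obtain ⟨r, τ, hr, hτ, hτY, hcard⟩ := exists_prime_fld hσ h1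
    by_cases hr2 : r = 2
    · subst hr2
      -- order four
      obtain ⟨a, ha⟩ : ∃ a : F, τ a ≠ a := by
        by_contra hcon
        push Not at hcon
        have : τ = 1 := RingEquiv.ext hcon
        rw [this, orderOf_one] at hτ
        exact absurd hτ (by norm_num)
      have h4' : Ord Y 4 := by
        refine ⟨⟨MulAut.conj (pr (uu (Multiplicative.ofAdd a))) * lift (fld τ), Y.mul_mem (hY _) hτY⟩, ?_⟩
        rw [← Subgroup.orderOf_coe]
        show orderOf (MulAut.conj (pr (uu (Multiplicative.ofAdd a))) * lift (fld τ)) = 2 ^ (1 + 1)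
        have hτ2 : lift (fld τ) * lift (fld τ) = (1 : MulAut (P2 F)) := by
          have h5 : τ ^ 2 = 1 := by
            have := pow_orderOf_eq_one τ
            rwa [hτ] at this
          rw [← map_mul, ← map_mul, ← pow_two, h5, map_one, map_one]
        have hsq : (MulAut.conj (pr (uu (Multiplicative.ofAdd a))) * lift (fld τ)) ^ 2 =
            MulAut.conj (pr (uu (Multiplicative.ofAdd (a + τ a)))) := by
          have h5 := aut_mul_conj (lift (fld τ)) (pr (uu (Multiplicative.ofAdd a)))
          have h6 : lift (fld τ) (pr (uu (Multiplicative.ofAdd a))) = pr (uu (Multiplicative.ofAdd (τ a))) := by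
            rw [lift_fld_pr, uu_apply, uu_apply, fld_m2]
            congr 1
            apply m2_ext <;> simp only [_root_.map_one, _root_.map_zero]
          rw [h6] at h5
          rw [pow_two, mul_assoc, ← mul_assoc (lift (fld τ)), h5, mul_assoc (MulAut.conj _) (lift (fld τ)), hτ2,
            mul_one, ← map_mul, ← map_mul, ← map_mul, ofAdd_add]
        apply orderOf_eq_prime_pow
        · rw [pow_one, hsq]
          intro h
          have h7 := hi (h.trans (map_one _).symm)
          rw [pr_uu_eq_one] at h7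
          have h8 : a + τ a = 0 := h7
          apply ha
          have h9 : (2 : F) = 0 := CharTwo.two_eq_zero
          linear_combination h8 - a * h9
        · rw [pow_succ, pow_one, pow_mul, hsq, ← map_pow, ← map_pow, ← map_pow]
          have h7 : (Multiplicative.ofAdd (a + τ a)) ^ 2 = 1 := by
            rw [pow_two, ← ofAdd_add]
            have h9 : (2 : F) = 0 := CharTwo.two_eq_zero
            have h10 : a + τ a + (a + τ a) = 0 := by linear_combination (a + τ a) * h9
            rw [h10]; rfl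
          rw [h7, map_one, map_one, map_one]
      have h2 := ord_of_pr hY hi ⟨_, orderOf_mw⟩
      have h6 := ord_of_fixed hY hi hτY (fld_m3 τ) orderOf_m3 hτ (by norm_num)
      exact hF.false Nat.prime_two h2 h4' h6 (by norm_num) (by norm_num) (by norm_num) (by norm_num)
        (by norm_num) (by norm_num)
    · by_cases hr3 : r = 3
      · subst hr3
        have h3 := ord_of_pr hY hi ⟨_, orderOf_m3⟩
        have h6 := ord_of_fixed hY hi hτY (fld_mw τ) orderOf_mw hτ (by norm_num)
        have h9 : Ord Y 9 := by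
          have hg : Nat.gcd 2 (Fintype.card F - 1) = 1 := by
            obtain ⟨m, hm⟩ := hev
            rw [Nat.Coprime.gcd_eq_one]
            rw [Nat.coprime_two_left]
            exact ⟨m - 1, by omega⟩
          set k := Nat.card {x : F // τ x = x} with hk
          rw [Nat.card_eq_fintype_card] at hcard
          have h3k : k % 3 ≠ 0 := by
            intro h
            have : 3 ∣ Fintype.card F := by
              rw [hcard]
              exact dvd_pow (Nat.dvd_of_mod_eq_zero h) (by norm_num)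
            rw [hn] at this
            have := Nat.prime_three.dvd_of_dvd_pow this
            omega
          have h9 : Fintype.card F % 9 = 1 ∨ Fintype.card F % 9 = 8 := by
            rw [hcard, Nat.pow_mod]
            have : k % 9 < 9 := Nat.mod_lt _ (by norm_num)
            have h' : k % 9 % 3 ≠ 0 := by omega
            interval_cases k % 9 <;> simp_all only [_root_.Nat.card_eq_fintype_card, _root_.map_mul, _root_.Nat.succ_ne_self, _root_.not_false_eq_true, _root_.Nat.reduceMul, _root_.Nat.coprime_two_left, _root_.ne_eq, _root_.Nat.ofNat_pos, _root_.Nat.zero_mod, _root_.not_true_eq_false, _root_.Nat.one_lt_ofNat, _root_.Nat.one_mod, _root_.one_ne_zero, _root_.one_pow, _root_.OfNat.one_ne_ofNat, _root_.or_false, _root_.Nat.reduceLT, _root_.Nat.mod_succ, _root_.OfNat.ofNat_ne_zero, _root_.Nat.reducePow, _root_.OfNat.ofNat_ne_one, _root_.or_true, _root_.Nat.mod_self, _root_.Nat.reduceMod, _root_.Nat.lt_add_one]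
          rcases h9 with h9 | h9
          · have := ord_minus (F := F)
            rw [hg, Nat.div_one] at this
            exact ord_of_pr hY hi (this.dvd (by omega))
          · have := ord_plus (F := F)
            rw [hg, Nat.div_one] at this
            exact ord_of_pr hY hi (this.dvd (by omega))
        exact hF.false Nat.prime_three h3 h6 h9 (by norm_num) (by norm_num) (by norm_num) (by norm_num)
          (by norm_num) (by norm_num)
      · exact false_of_fld hY hi hF hτY hr hr2 hr3 hτ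

end even

end Cfsg.Agent.H577
end

-- part: H577/PslAutOdd
section
/-!
# `Few` groups between `PSL(2, q)`, `q` odd, and its automorphism group
-/

set_option autoImplicit false
set_option linter.unusedSectionVars false

namespace Cfsg.Agent.H577

open Matrix Subgroup
open Cfsg.Agent.ClassicalGeometry.AutPSL.Root (pr pr_surjective)
open Cfsg.Agent.ClassicalGeometry.AutPSL.Auto (cj fld lift itr coe_cj coe_fld_apply lift_pr)
open Cfsg.Agent.ClassicalGeometry.AutPSL.Main (cj_eq_one_of_scalar injective_aux surj_two surj_three)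
open Psl2

variable {F : Type*} [Field F] [Fintype F]

theorem det_gl_ne (A : GL (Fin 2) F) : (A : Matrix (Fin 2) (Fin 2) F).det ≠ 0 := by
  intro h0
  have h1 : (A : Matrix (Fin 2) (Fin 2) F).det * ((A⁻¹ : GL (Fin 2) F) : Matrix (Fin 2) (Fin 2) F).det = 1 := by
    rw [← det_mul, ← Units.val_mul, mul_inv_cancel, Units.val_one, det_one]
  rw [h0, zero_mul] at h1
  exact zero_ne_one h1

theorem det_map (σ : F ≃+* F) (A : GL (Fin 2) F) :
    ((Matrix.GeneralLinearGroup.map (σ : F →+* F) A : GL (Fin 2) F) : Matrix (Fin 2) (Fin 2) F).det =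
      σ (A : Matrix (Fin 2) (Fin 2) F).det := by
  show ((σ : F →+* F).mapMatrix (A : Matrix (Fin 2) (Fin 2) F)).det = _
  rw [← RingHom.map_det]
  rfl

/-- nonsquares: product with a nonsquare -/
theorem isSquare_mul_iff (hodd : Odd (Fintype.card F)) {x y : F} (hx : x ≠ 0) (hy : y ≠ 0) :
    IsSquare (x * y) ↔ (IsSquare x ↔ IsSquare y) := by
  classical
  have h2 := two_ne_zero_of_odd hodd
  have hc : ringChar F ≠ 2 := by
    intro h
    apply h2
    have := ringChar.Nat.cast_ringChar (R := F)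
    rw [h] at this
    exact_mod_cast this
  have e1 := quadraticChar_one_iff_isSquare hx
  have e2 := quadraticChar_one_iff_isSquare hy
  have e3 := quadraticChar_one_iff_isSquare (mul_ne_zero hx hy)
  rw [map_mul] at e3
  rcases quadraticChar_dichotomy hx with h1 | h1 <;> rcases quadraticChar_dichotomy hy with h3 | h3 <;>
    rw [h1] at e1 e3 <;> rw [h3] at e2 e3 <;> simp_all only [_root_.ne_eq, _root_.true_iff, _root_.mul_one, _root_.quadraticChar_apply, _root_.Int.reduceNeg, _root_.reduceCtorEq, _root_.false_iff, _root_.mul_neg, _root_.iff_false, _root_.not_true_eq_false, _root_.iff_true, _root_.neg_neg]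

theorem isSquare_map (σ : F ≃+* F) (x : F) : IsSquare (σ x) ↔ IsSquare x := by
  constructor
  · rintro ⟨y, hy⟩
    exact ⟨σ.symm y, by apply σ.injective; rw [hy, map_mul, σ.apply_symm_apply]⟩
  · rintro ⟨y, hy⟩
    exact ⟨σ y, by rw [hy, map_mul]⟩

theorem iterate (hodd : Odd (Fintype.card F)) (A : GL (Fin 2) F) (σ : F ≃+* F)
    (hA : ¬ IsSquare (A : Matrix (Fin 2) (Fin 2) F).det) (k : ℕ) :
    ∃ B : GL (Fin 2) F, (cj A * fld σ) ^ k = cj B * fld (σ ^ k) ∧
      (IsSquare (B : Matrix (Fin 2) (Fin 2) F).det ↔ Even k) := by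
  induction k with
  | zero =>
    refine ⟨1, by rw [pow_zero, pow_zero, map_one, map_one, one_mul], ?_⟩
    rw [Units.val_one, det_one]
    simp only [_root_.IsSquare.one, _root_.Even.zero]
  | succ k ih =>
    obtain ⟨B, hB, hsq⟩ := ih
    refine ⟨B * Matrix.GeneralLinearGroup.map ((σ ^ k : F ≃+* F) : F →+* F) A, ?_, ?_⟩
    · rw [pow_succ, hB, mul_assoc, ← mul_assoc (fld (σ ^ k)), fld_mul_cj, pow_succ σ k, map_mul, map_mul]
      simp only [mul_assoc]
    · rw [Units.val_mul, det_mul, det_map, isSquare_mul_iff hodd (det_gl_ne B)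
        (by rw [Ne, map_eq_zero_iff _ (σ ^ k).injective]; exact det_gl_ne A), isSquare_map, hsq, Nat.even_add_one]
      simp only [hA, _root_.iff_false, _root_.Nat.not_even_iff_odd]

/-- if `σ` has odd order, there are diagonal automorphisms of nonsquare determinant -/
theorem mem_of_nonsquare (hodd : Odd (Fintype.card F)) {Y : Subgroup (MulAut (P2 F))}
    (hY : ∀ x : P2 F, MulAut.conj x ∈ Y) {A : GL (Fin 2) F} {σ : F ≃+* F} (h : lift (cj A * fld σ) ∈ Y)
    (hA : ¬ IsSquare (A : Matrix (Fin 2) (Fin 2) F).det) (hσ : Odd (orderOf σ)) (B : GL (Fin 2) F)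
    (hB : ¬ IsSquare (B : Matrix (Fin 2) (Fin 2) F).det) : lift (cj B) ∈ Y := by
  obtain ⟨C, hC, hsq⟩ := iterate hodd A σ hA (orderOf σ)
  have h1 : lift (cj C * fld 1) ∈ Y := by
    have h2 := Y.pow_mem h (orderOf σ)
    rw [← map_pow, hC, pow_orderOf_eq_one] at h2
    exact h2
  have hC' : ¬ IsSquare (C : Matrix (Fin 2) (Fin 2) F).det := by
    rw [hsq, Nat.not_even_iff_odd]
    exact hσ
  have h3 : IsSquare ((B : Matrix (Fin 2) (Fin 2) F).det * (C : Matrix (Fin 2) (Fin 2) F).det) := by
    rw [isSquare_mul_iff hodd (det_gl_ne B) (det_gl_ne C)]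
    simp only [hB, hC']
  obtain ⟨s, hs⟩ := h3
  have h4 := mem_of_det hY (B := B) h1 ⟨s / (C : Matrix (Fin 2) (Fin 2) F).det, by
    have := det_gl_ne C
    field_simp
    rw [hs]; ring⟩
  rwa [map_one, mul_one] at h4

/-- same with the field automorphism kept -/
theorem mem_of_nonsquare' (hodd : Odd (Fintype.card F)) {Y : Subgroup (MulAut (P2 F))}
    (hY : ∀ x : P2 F, MulAut.conj x ∈ Y) {A : GL (Fin 2) F} {σ : F ≃+* F} (h : lift (cj A * fld σ) ∈ Y)
    (hA : ¬ IsSquare (A : Matrix (Fin 2) (Fin 2) F).det) (B : GL (Fin 2) F)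
    (hB : ¬ IsSquare (B : Matrix (Fin 2) (Fin 2) F).det) : lift (cj B * fld σ) ∈ Y := by
  have h3 : IsSquare ((B : Matrix (Fin 2) (Fin 2) F).det * (A : Matrix (Fin 2) (Fin 2) F).det) := by
    rw [isSquare_mul_iff hodd (det_gl_ne B) (det_gl_ne A)]
    simp only [hB, hA]
  obtain ⟨s, hs⟩ := h3
  exact mem_of_det hY (B := B) h ⟨s / (A : Matrix (Fin 2) (Fin 2) F).det, by
    have := det_gl_ne A
    field_simp
    rw [hs]; ring⟩

/-- order of the automorphism induced by `diag(a, d)` -/
theorem orderOf_cj_diag (a d : Fˣ) (h : (a : F) * d - 0 * 0 ≠ 0) :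
    orderOf (lift (cj (g2 (a : F) 0 0 (d : F) h))) = orderOf (a * d⁻¹) := by
  rw [orderOf_eq_orderOf_iff]
  intro n
  have hpow : ∀ n : ℕ, g2 (a : F) 0 0 (d : F) h ^ n = g2 ((a : F) ^ n) 0 0 ((d : F) ^ n) (by
      rw [mul_zero, sub_zero]
      exact mul_ne_zero (pow_ne_zero _ a.ne_zero) (pow_ne_zero _ d.ne_zero)) := by
    intro n
    induction n with
    | zero =>
      apply Units.ext
      rw [pow_zero, Units.val_one, g2_coe, pow_zero, pow_zero]
      exact one_fin_two
    | succ n ih =>
      rw [pow_succ, ih, g2_mul]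
      apply Units.ext
      rw [g2_coe, g2_coe]
      simp [pow_succ]
  rw [← map_pow, ← map_pow, hpow]
  have hiff : (a * d⁻¹) ^ n = 1 ↔ (a : F) ^ n = (d : F) ^ n := by
    rw [mul_pow, inv_pow, mul_inv_eq_one, ← Units.val_inj, Units.val_pow_eq_pow_val, Units.val_pow_eq_pow_val]
  rw [hiff]
  constructor
  · intro h1
    by_contra hne
    refine cj_ne_one ?_ h1
    rintro ⟨r, hr⟩
    rw [g2_coe] at hr
    have e0 := congrFun (congrFun hr 0) 0
    have e1 := congrFun (congrFun hr 1) 1
    simp at e0 e1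
    exact hne (by rw [← e0, e1])
  · intro h1
    rw [cj_eq_one_of_scalar (r := (a : F) ^ n), map_one]
    rw [g2_coe, ← h1]
    ext i j
    (revert i j; simp only [_root_.Fin.forall_fin_succ, _root_.Matrix.scalar_apply, _root_.Matrix.of_apply, _root_.Matrix.cons_val', _root_.Matrix.cons_val_fin_one, Fin.isValue, _root_.Matrix.cons_val_zero, _root_.Matrix.cons_val_succ, _root_.Fin.succ_zero_eq_one, _root_.IsEmpty.forall_iff, _root_.and_true, _root_.Matrix.diagonal_apply_eq, _root_.ne_eq, _root_.zero_ne_one, _root_.not_false_eq_true, _root_.Matrix.diagonal_apply_ne, _root_.and_self, _root_.Fin.succ_ne_zero, _root_.true_and])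

end Cfsg.Agent.H577
end

-- part: H577/PslAutOddMain
section
/-!
# `Few` groups between `PSL(2, q)`, `q` odd, and its automorphism group: the cases
-/

set_option autoImplicit false
set_option linter.unusedSectionVars false

namespace Cfsg.Agent.H577

open Matrix Subgroup
open Cfsg.Agent.ClassicalGeometry.AutPSL.Root (pr pr_surjective)
open Cfsg.Agent.ClassicalGeometry.AutPSL.Auto (cj fld lift itr coe_cj coe_fld_apply lift_pr)
open Cfsg.Agent.ClassicalGeometry.AutPSL.Main (cj_eq_one_of_scalar injective_aux surj_two surj_three)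
open Psl2

variable {F : Type*} [Field F] [Fintype F]

/-- an automorphism of order four, of determinant 2 -/
theorem orderOf_cj_four (h2 : (2 : F) ≠ 0) (h : (1 : F) * 1 - 1 * (-1) ≠ 0) :
    orderOf (lift (cj (g2 (1 : F) 1 (-1) 1 h))) = 4 := by
  have hf := Fact.mk Nat.prime_two
  have hsq : cj (g2 (1 : F) 1 (-1) 1 h) ^ 2 = cj (g2 (0 : F) 2 (-2) 0 (by
      intro h0
      have : (2 : F) * 2 = 0 := by linear_combination h0
      rcases mul_eq_zero.1 this with h1 | h1 <;> exact h2 h1)) := by
    rw [pow_two, ← map_mul, g2_mul]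
    congr 1
    apply Units.ext
    rw [g2_coe, g2_coe]
    ext i j
    (revert i j; norm_num [_root_.Fin.forall_fin_succ])
  show _ = 2 ^ (1 + 1)
  apply orderOf_eq_prime_pow
  · rw [pow_one, ← map_pow, hsq]
    apply cj_ne_one
    rintro ⟨r, hr⟩
    rw [g2_coe] at hr
    have e1 := congrFun (congrFun hr 0) 1
    simp only [_root_.Fin.isValue, _root_.Matrix.scalar_apply, _root_.ne_eq, _root_.zero_ne_one, _root_.not_false_eq_true, _root_.Matrix.diagonal_apply_ne, _root_.Matrix.of_apply, _root_.Matrix.cons_val', _root_.Matrix.cons_val_one, _root_.Matrix.cons_val_fin_one, _root_.Matrix.cons_val_zero] at e1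
    exact h2 e1.symm
  · rw [pow_succ, pow_one, pow_mul, ← map_pow, hsq, ← map_pow, pow_two, ← map_mul, g2_mul,
      cj_eq_one_of_scalar (r := (-4 : F)), map_one]
    rw [g2_coe]
    ext i j
    (revert i j; norm_num [_root_.Fin.forall_fin_succ])

/-- **`q ≡ 3, 5 mod 8`, `q > 5`.** -/
theorem aut_odd (h8 : Fintype.card F % 8 = 3 ∨ Fintype.card F % 8 = 5) (h5 : 5 < Fintype.card F)
    (Y : Subgroup (MulAut (P2 F))) (hY : ∀ x : P2 F, MulAut.conj x ∈ Y) (hF : Few Y) :
    ∀ α ∈ Y, ∃ x : P2 F, α = MulAut.conj x := by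
  classical
  intro α hα
  have hodd : Odd (Fintype.card F) := by
    rw [Nat.odd_iff]; omega
  have h2 := two_ne_zero_of_odd hodd
  obtain ⟨p, hchar, n, hp, hn⟩ := FiniteField.card' (K := F)
  have hpf := Fact.mk hp
  have hs := TwoFusion.SLTwoFacts.isSimpleGroup_psl (F := F) (by omega)
  have hi := conj_injective (exists_noncomm (F := F) (by omega))
  obtain ⟨A, σ, rfl⟩ := surj_two p α
  have hσodd : ∀ τ : F ≃+* F, Odd (orderOf τ) := by
    intro τ
    rw [← Nat.not_even_iff_odd]
    rintro ⟨m, hm⟩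
    have h1 := StdL2.FGal.card_fixed τ
    rw [hm, Nat.card_eq_fintype_card] at h1
    set k := Nat.card {x : F // τ x = x}
    have h3 : Fintype.card F = (k ^ m) * (k ^ m) := by rw [h1, pow_add]
    generalize k ^ m = l at h3
    have h4 : l * l % 8 = (l % 8) * (l % 8) % 8 := Nat.mul_mod l l 8
    rw [← h3] at h4
    have h6 : l % 8 < 8 := Nat.mod_lt _ (by norm_num)
    interval_cases l % 8 <;> (clear * - h8 hn h1 h3 h4; omega)
  -- an element of order `2 r`
  obtain ⟨r, hr, hr2, hrd, hor⟩ := exists_two_mul h8 h5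
  have hor' := ord_of_pr hY hi hor
  have ho2 := ord_of_pr hY hi ⟨_, orderOf_mw⟩
  have hrp := hr.one_lt
  by_cases hA : IsSquare (A : Matrix (Fin 2) (Fin 2) F).det
  · obtain ⟨s, hs⟩ := hA
    rw [← pow_two] at hs
    have hσ := fld_mem_of_isSquare hY hα hs
    by_cases h1 : σ = 1
    · subst h1
      rw [map_one, mul_one]
      exact conj_of_det_sq hs
    · exfalso
      obtain ⟨r', τ, hr', hτ, hτY, hcard⟩ := exists_prime_fld hσ h1
      have hr'2 : r' ≠ 2 := by
        rintro rfl
        have := hσodd τ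
        rw [hτ] at this
        exact absurd this (by decide)
      by_cases hr'3 : r' = 3
      · subst hr'3
        have h6 := ord_of_fixed hY hi hτY (fld_mw τ) orderOf_mw hτ (by norm_num)
        by_cases hp3 : p = 3
        · subst hp3
          -- `r ≠ 3`
          have hr3 : r ≠ 3 := by
            rintro rfl
            have h7 : 3 ∣ Fintype.card F := by
              rw [hn]
              exact dvd_pow_self 3 n.pos.ne'
            omega
          exact hF.false Nat.prime_two ho2 h6 hor' (by norm_num) (by omega) (by omega) (by norm_num) (by norm_num)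
            (dvd_mul_right _ _)
        · have h3 := ord_of_pr hY hi ⟨_, orderOf_m3⟩
          have hup : orderOf (pr (uu (Multiplicative.ofAdd (1 : F)))) = p := by
            apply orderOf_eq_prime
            · rw [← map_pow, ← map_pow, ← ofAdd_nsmul, nsmul_eq_mul, CharP.cast_eq_zero, zero_mul, ofAdd_zero,
                map_one, map_one]
            · rw [Ne, pr_uu_eq_one]
              exact one_ne_zero (α := F)
          have hfix : fld τ (uu (Multiplicative.ofAdd (1 : F))) = uu (Multiplicative.ofAdd (1 : F)) := by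
            rw [uu_apply, fld_m2]
            apply m2_ext <;> simp only [_root_.map_one, _root_.map_zero]
          have h9 := ord_of_fixed hY hi hτY hfix hup hτ ((Nat.coprime_primes hp Nat.prime_three).2 hp3)
          have hp2 : p ≠ 2 := by
            rintro rfl
            apply h2
            have := CharP.cast_eq_zero F 2
            exact_mod_cast this
          have := hp.one_lt
          exact hF.false Nat.prime_three h3 h6 h9 (by norm_num) (by omega) (by omega) (by norm_num)
            (by norm_num) (Dvd.intro_left _ rfl)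
      · exact false_of_fld hY hi hF hτY hr' hr'2 hr'3 hτ
  · exfalso
    have hd : (1 : F) * 1 - 1 * (-1) ≠ 0 := by
      intro h0
      apply h2
      linear_combination h0
    have h4 : lift (cj (g2 (1 : F) 1 (-1) 1 hd)) ∈ Y := by
      refine mem_of_nonsquare hodd hY hα hA (hσodd σ) _ ?_
      rw [g2_coe, det_fin_two_of]
      have : (1 : F) * 1 - 1 * (-1) = 2 := by ring
      rw [this, FiniteField.isSquare_two_iff]
      (clear * - h8; omega)
    have h4' : Ord Y 4 := ⟨⟨_, h4⟩, by
      rw [← Subgroup.orderOf_coe]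
      exact orderOf_cj_four h2 hd⟩
    exact hF.false Nat.prime_two ho2 h4' hor' (by norm_num) (by
      intro h
      apply hr2
      omega) (by omega) (by norm_num) (by norm_num) (dvd_mul_right _ _)

theorem not_isSquare_generator (hodd : Odd (Fintype.card F)) {g : Fˣ} (hg : orderOf g = Fintype.card F - 1) :
    ¬ IsSquare (g : F) := by
  classical
  rintro ⟨s, hs⟩
  have hs0 : s ≠ 0 := by
    rintro rfl
    rw [mul_zero] at hs
    exact g.ne_zero hs
  have h1 : g = (Units.mk0 s hs0) ^ 2 := by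
    apply Units.ext
    rw [hs, pow_two]; rfl
  have h2 : g ^ ((Fintype.card F - 1) / 2) = 1 := by
    rw [h1, ← pow_mul]
    have h3 : 2 * ((Fintype.card F - 1) / 2) = Fintype.card F - 1 := by
      obtain ⟨m, hm⟩ := hodd
      omega
    rw [h3, ← Fintype.card_units, pow_card_eq_one]
  have h3 := orderOf_dvd_of_pow_eq_one h2
  rw [hg] at h3
  have h4 : 1 < Fintype.card F := Fintype.one_lt_card
  obtain ⟨m, hm⟩ := hodd
  have := Nat.le_of_dvd (by omega) h3
  omega

/-- **`q = 7`.** -/
theorem aut_seven (h7 : Fintype.card F = 7) (Y : Subgroup (MulAut (P2 F))) (hY : ∀ x : P2 F, MulAut.conj x ∈ Y)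
    (hF : Few Y) : ∀ α ∈ Y, ∃ x : P2 F, α = MulAut.conj x := by
  classical
  intro α hα
  have hodd : Odd (Fintype.card F) := by
    rw [Nat.odd_iff]; omega
  obtain ⟨p, hchar, n, hp, hn⟩ := FiniteField.card' (K := F)
  have hpf := Fact.mk hp
  have hs := TwoFusion.SLTwoFacts.isSimpleGroup_psl (F := F) (by omega)
  have hi := conj_injective (exists_noncomm (F := F) (by omega))
  obtain ⟨A, σ, rfl⟩ := surj_two p α
  have hσ : σ = 1 := by
    have h1 := StdL2.FGal.card_fixed σ
    rw [Nat.card_eq_fintype_card, h7] at h1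
    set k := Nat.card {x : F // σ x = x}
    have h2 : orderOf σ = 1 := by
      have h3 : k ∣ 7 := by
        rw [h1]
        apply dvd_pow_self
        intro h0
        rw [h0] at h1
        norm_num at h1
      rcases (Nat.dvd_prime (by norm_num : Nat.Prime 7)).1 h3 with h4 | h4
      · rw [h4, one_pow] at h1
        norm_num at h1
      · rw [h4] at h1
        have h5 : 7 ^ 1 = 7 ^ orderOf σ := by rw [pow_one]; exact h1
        exact (Nat.pow_right_injective (le_refl 7 |>.trans' (by norm_num)) h5).symm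
    exact orderOf_eq_one_iff.1 h2
  subst hσ
  by_cases hA : IsSquare (A : Matrix (Fin 2) (Fin 2) F).det
  · obtain ⟨s, hs⟩ := hA
    rw [← pow_two] at hs
    rw [map_one, mul_one]
    exact conj_of_det_sq hs
  · exfalso
    obtain ⟨g, hg⟩ := IsCyclic.exists_generator (α := Fˣ)
    have h1 : orderOf g = Fintype.card F - 1 := by
      rw [orderOf_eq_card_of_forall_mem_zpowers hg, Nat.card_eq_fintype_card, Fintype.card_units]
    have hd : (g : F) * ((1 : Fˣ) : F) - 0 * 0 ≠ 0 := by simp
    have h3 : lift (cj (g2 (g : F) 0 0 ((1 : Fˣ) : F) hd)) ∈ Y := by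
      refine mem_of_nonsquare hodd hY hα hA (by rw [orderOf_one]; exact odd_one) _ ?_
      rw [g2_coe, det_fin_two_of]
      simp only [Units.val_one, mul_one, mul_zero, sub_zero]
      exact not_isSquare_generator hodd h1
    have h6 : Ord Y 6 := ⟨⟨_, h3⟩, by
      rw [← Subgroup.orderOf_coe]
      show orderOf (lift (cj (g2 (g : F) 0 0 ((1 : Fˣ) : F) hd))) = 6
      rw [orderOf_cj_diag, inv_one, mul_one, h1, h7]⟩
    have h4 : Ord Y 4 := by
      have := ord_plus (F := F)
      rw [h7] at this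
      exact ord_of_pr hY hi this
    exact hF.false Nat.prime_two (ord_of_pr hY hi ⟨_, orderOf_mw⟩) h4 h6 (by norm_num) (by norm_num)
      (by norm_num) (by norm_num) (by norm_num) (by norm_num)

/-- **`q = 9`.** -/
theorem aut_nine (h9 : Fintype.card F = 9) (Y : Subgroup (MulAut (P2 F))) (hY : ∀ x : P2 F, MulAut.conj x ∈ Y)
    (hF : Few Y) : ∀ α ∈ Y, ∃ x : P2 F, α = MulAut.conj x := by
  classical
  intro α hα
  have hodd : Odd (Fintype.card F) := by
    rw [Nat.odd_iff]; omega
  obtain ⟨p, hchar, n, hp, hn⟩ := FiniteField.card' (K := F)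
  have hpf := Fact.mk hp
  have hs := TwoFusion.SLTwoFacts.isSimpleGroup_psl (F := F) (by omega)
  have hi := conj_injective (exists_noncomm (F := F) (by omega))
  have ho2 := ord_of_pr hY hi ⟨_, orderOf_mw⟩
  have h4 : Ord Y 4 := by
    have := ord_minus (F := F)
    rw [h9] at this
    exact ord_of_pr hY hi this
  obtain ⟨A, σ, rfl⟩ := surj_two p α
  obtain ⟨g, hg⟩ := IsCyclic.exists_generator (α := Fˣ)
  have h1 : orderOf g = 8 := by
    rw [orderOf_eq_card_of_forall_mem_zpowers hg, Nat.card_eq_fintype_card, Fintype.card_units, h9]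
  have hgn : ¬ IsSquare (g : F) := not_isSquare_generator hodd (by rw [h1, h9])
  -- an automorphism of order two
  have hord : σ ≠ 1 → orderOf σ = 2 ∧ Nat.card {x : F // σ x = x} = 3 := by
    intro hσ
    have h2 := StdL2.FGal.card_fixed σ
    have h3 : orderOf σ ≠ 1 := fun h => hσ (orderOf_eq_one_iff.1 h)
    have h5 : orderOf σ ≠ 0 := by
      intro h0
      rw [h0, Nat.card_eq_fintype_card, h9] at h2
      norm_num only [_root_.Nat.card_eq_fintype_card, _root_.pow_zero, _root_.OfNat.ofNat_ne_one] at h2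
    rw [Nat.card_eq_fintype_card, h9] at h2
    have h6 := StdL2.FGal.one_lt_card_fixed σ
    set k := Nat.card {x : F // σ x = x}
    obtain ⟨m, hm⟩ : ∃ m, orderOf σ = m + 2 := ⟨orderOf σ - 2, by omega⟩
    rw [hm] at h2
    have hk3 : k ≤ 3 := by
      by_contra hcon
      push Not at hcon
      have : 4 ^ 2 ≤ k ^ (m + 2) := (Nat.pow_le_pow_left hcon 2).trans (Nat.pow_le_pow_right (by omega) (by omega))
      omega
    have hm2 : m < 3 := by
      by_contra hcon
      push Not at hcon
      have : 2 ^ 5 ≤ k ^ (m + 2) := (Nat.pow_le_pow_left h6 5).trans (Nat.pow_le_pow_right (by omega) (by omega))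
      omega
    interval_cases k <;> interval_cases m <;> simp_all only [_root_.zero_add, _root_.Nat.reducePow, _root_.map_mul, _root_.ne_eq, _root_.OfNat.ofNat_ne_one, _root_.not_false_eq_true, _root_.OfNat.ofNat_ne_zero, _root_.Std.le_refl, _root_.Nat.reduceLeDiff, _root_.Nat.ofNat_pos, _root_.Nat.reduceEqDiff, _root_.Nat.reduceAdd, _root_.Nat.one_lt_ofNat, _root_.Nat.succ_ne_self, _root_.Nat.lt_add_one, _root_.and_self]
  by_cases hA : IsSquare (A : Matrix (Fin 2) (Fin 2) F).det
  · obtain ⟨s, hs⟩ := hA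
    rw [← pow_two] at hs
    have hσ := fld_mem_of_isSquare hY hα hs
    by_cases h1 : σ = 1
    · subst h1
      rw [map_one, mul_one]
      exact conj_of_det_sq hs
    · exfalso
      have h6 := ord_of_fixed hY hi hσ (fld_m3 σ) orderOf_m3 (hord h1).1 (by norm_num)
      exact hF.false Nat.prime_two ho2 h4 h6 (by norm_num) (by norm_num)
        (by norm_num) (by norm_num) (by norm_num) (by norm_num)
  · exfalso
    have h8 : Ord Y 8 := by
      by_cases hσ : σ = 1
      · subst hσ
        have hd : (g : F) * ((1 : Fˣ) : F) - 0 * 0 ≠ 0 := by simp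
        have h3 : lift (cj (g2 (g : F) 0 0 ((1 : Fˣ) : F) hd)) ∈ Y := by
          refine mem_of_nonsquare hodd hY hα hA (by rw [orderOf_one]; exact odd_one) _ ?_
          rw [g2_coe, det_fin_two_of]
          simp only [Units.val_one, mul_one, mul_zero, sub_zero]
          exact hgn
        refine ⟨⟨_, h3⟩, ?_⟩
        rw [← Subgroup.orderOf_coe]
        show orderOf (lift (cj (g2 (g : F) 0 0 ((1 : Fˣ) : F) hd))) = 8
        rw [orderOf_cj_diag, inv_one, mul_one, h1]
      · obtain ⟨ho, hk⟩ := hord hσ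
        have hneg : IsSquare (-1 : F) := by
          rw [FiniteField.isSquare_neg_one_iff, h9]
          norm_num
        have hd : (0 : F) * 0 - 1 * (g : F) ≠ 0 := by simp
        have h3 : lift (cj (g2 (0 : F) 1 (g : F) 0 hd) * fld σ) ∈ Y := by
          refine mem_of_nonsquare' hodd hY hα hA _ ?_
          rw [g2_coe, det_fin_two_of]
          have : (0 : F) * 0 - 1 * (g : F) = (-1) * (g : F) := by ring
          rw [this, isSquare_mul_iff hodd (by norm_num) g.ne_zero]
          simp only [hneg, hgn, _root_.iff_false, _root_.not_true_eq_false, _root_.not_false_eq_true]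
        have hs2 : σ * σ = 1 := by
          have := pow_orderOf_eq_one σ
          rwa [ho, pow_two] at this
        have hss : ∀ x, σ (σ x) = x := fun x => congrArg (fun τ : F ≃+* F => τ x) hs2
        -- the square
        have hd' : ((Units.map (σ : F →* F) g : Fˣ) : F) * (g : F) - 0 * 0 ≠ 0 := by
          rw [mul_zero, sub_zero]
          exact mul_ne_zero (Units.ne_zero _) (Units.ne_zero _)
        have hsq : (cj (g2 (0 : F) 1 (g : F) 0 hd) * fld σ) ^ 2 =
            cj (g2 ((Units.map (σ : F →* F) g : Fˣ) : F) 0 0 (g : F) hd') := by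
          rw [pow_two, mul_assoc, ← mul_assoc (fld σ), fld_mul_cj, map_g2, mul_assoc (cj _) (fld σ), ← map_mul fld,
            hs2, map_one fld, mul_one, ← map_mul, g2_mul]
          congr 1
          apply Units.ext
          rw [g2_coe, g2_coe]
          simp
        -- order of `σ g / g`
        have h44 : orderOf ((Units.map (σ : F →* F) g : Fˣ) * g⁻¹) = 4 := by
          have h2 := two_ne_zero_of_odd hodd
          set N : Fˣ := Units.map (σ : F →* F) g * g with hNdef
          have hNval : (N : F) = σ g * g := rfl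
          have hNfix : σ (N : F) = N := by
            rw [hNval, map_mul, hss, mul_comm]
          have hN : N ^ 2 = 1 := by
            by_contra hne
            have hn1 : (N : F) ≠ 1 := by
              intro h
              apply hne
              have : N = 1 := Units.ext h
              rw [this, one_pow]
            have hn2 : (N : F) ≠ -1 := by
              intro h
              apply hne
              apply Units.ext
              rw [Units.val_pow_eq_pow_val, h]
              norm_num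
            have hn0 : (N : F) ≠ 0 := N.ne_zero
            have hsub : ({0, 1, -1, (N : F)} : Finset F) ⊆ Finset.univ.filter (fun x : F => σ x = x) := by
              intro x hx
              simp only [Finset.mem_insert, Finset.mem_singleton] at hx
              rw [Finset.mem_filter]
              refine ⟨Finset.mem_univ _, ?_⟩
              rcases hx with rfl | rfl | rfl | rfl
              · exact map_zero σ
              · exact map_one σ
              · rw [map_neg, map_one]
              · exact hNfix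
            have hc := Finset.card_le_card hsub
            rw [Nat.card_eq_fintype_card, Fintype.card_subtype] at hk
            rw [hk] at hc
            have hne1 : (1 : F) ≠ -1 := by
              intro h
              apply h2
              linear_combination h
            have h4c : ({0, 1, -1, (N : F)} : Finset F).card = 4 := by
              rw [Finset.card_insert_of_notMem, Finset.card_insert_of_notMem, Finset.card_insert_of_notMem,
                Finset.card_singleton]
              · simpa using hn2.symm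
              · simp only [Finset.mem_insert, Finset.mem_singleton, not_or]
                exact ⟨hne1, hn1.symm⟩
              · simp only [Finset.mem_insert, Finset.mem_singleton, not_or]
                exact ⟨zero_ne_one, by simp, hn0.symm⟩
            omega
          have hy : (Units.map (σ : F →* F) g : Fˣ) * g⁻¹ = N * (g ^ 2)⁻¹ := by
            rw [hNdef]
            group
          have hf := Fact.mk Nat.prime_two
          rw [hy]
          show _ = 2 ^ (1 + 1)
          apply orderOf_eq_prime_pow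
          · rw [pow_one, mul_pow, hN, one_mul, inv_pow, ← pow_mul, inv_eq_one]
            intro h
            have := orderOf_dvd_of_pow_eq_one h
            rw [h1] at this
            exact absurd this (by norm_num)
          · rw [show (2 : ℕ) ^ (1 + 1) = 2 * 2 from rfl, pow_mul, mul_pow, hN, one_mul, inv_pow, ← pow_mul,
              inv_pow, ← pow_mul, inv_eq_one]
            have := pow_orderOf_eq_one g
            rw [h1] at this
            exact this
        refine ⟨⟨_, h3⟩, ?_⟩
        rw [← Subgroup.orderOf_coe]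
        show orderOf (lift (cj (g2 (0 : F) 1 (g : F) 0 hd) * fld σ)) = 8
        have hf := Fact.mk Nat.prime_two
        have h5 : orderOf ((lift (cj (g2 (0 : F) 1 (g : F) 0 hd) * fld σ)) ^ 2) = 4 := by
          rw [← map_pow, hsq, orderOf_cj_diag, h44]
        show _ = 2 ^ (2 + 1)
        apply orderOf_eq_prime_pow
        · intro h
          have h6 : ((lift (cj (g2 (0 : F) 1 (g : F) 0 hd) * fld σ)) ^ 2) ^ 2 = 1 := by
            rw [← pow_mul]; exact h
          have := orderOf_dvd_of_pow_eq_one h6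
          rw [h5] at this
          exact absurd this (by norm_num)
        · have h6 := pow_orderOf_eq_one ((lift (cj (g2 (0 : F) 1 (g : F) 0 hd) * fld σ)) ^ 2)
          rw [h5, ← pow_mul] at h6
          exact h6
    exact hF.false Nat.prime_two ho2 h4 h8 (by norm_num) (by norm_num)
      (by norm_num) (by norm_num) (by norm_num) (by norm_num)

end Cfsg.Agent.H577
end

private theorem dce_b4b335e759cf : _root_.True := by
  try have : _root_.True := by simp only [_root_.Cfsg.Agent.H577.m3.eq_1]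
  try have : _root_.True := by simp only [_root_.Cfsg.Agent.H577.mw.eq_1]
  exact _root_.True.intro
end
end
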